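import Cfsg.Agent.Lib.LieTwisted.SuzukiSylow
import Mathlib

/-!
Binary actions on cosets: the triangle consequence, transport, and a sufficient criterion.
-/

set_option autoImplicit false

namespace Cfsg.Agent.Lib.SzBinary56

variable {G : Type*} [Group G]

/-- The action of `G` on the cosets of `H` is binary. -/
def Bin (H : Subgroup G) : Prop :=
  ∀ (n : ℕ) (I J : Fin n → G ⧸ H), 2 ≤ n →
    (∀ i j : Fin n, i ≠ j → ∃ g : G, g • I i = J i ∧ g • I j = J j) → ∃ g : G, ∀ i, g • I i = J i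

/-- The stabiliser of the coset `y H`. -/
theorem smul_mk_eq_iff (H : Subgroup G) (a y : G) :
    a • (QuotientGroup.mk y : G ⧸ H) = QuotientGroup.mk y ↔ y⁻¹ * a * y ∈ H := by
  rw [MulAction.Quotient.smul_mk, smul_eq_mul, eq_comm, QuotientGroup.eq, mul_assoc]

/-- The intersection of the conjugates of `H` containing `a`, as a predicate. -/
def InS (H : Subgroup G) (a g : G) : Prop := ∀ y : G, y⁻¹ * a * y ∈ H → y⁻¹ * g * y ∈ H

/-- The consequence of binarity used throughout. -/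
theorem Bin.key [Finite G] {H : Subgroup G} (hB : Bin H) (a b x : G) (hab : x⁻¹ * (b⁻¹ * a) * x ∈ H) :
    ∃ g, InS H a g ∧ InS H b g ∧ x⁻¹ * (g⁻¹ * a) * x ∈ H := by
  classical
  let P := {w : G ⧸ H // a • w = w ∨ b • w = w}
  letI : Fintype P := Fintype.ofFinite P
  set X : G ⧸ H := QuotientGroup.mk x
  have hx : b • X = a • X := by
    have h1 := (smul_mk_eq_iff H (b⁻¹ * a) x).2 hab
    rw [mul_smul, inv_smul_eq_iff] at h1
    exact h1.symm
  let e := Fintype.equivFin (Option (Option P))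
  let pI : Option (Option P) → G ⧸ H := fun o =>
    match o with
    | none => X
    | some none => X
    | some (some w) => w.1
  let pJ : Option (Option P) → G ⧸ H := fun o =>
    match o with
    | none => a • X
    | some none => a • X
    | some (some w) => w.1
  have hcard : 2 ≤ Fintype.card (Option (Option P)) := by
    simp [Fintype.card_option]
  have hpair : ∀ o o' : Option (Option P), ∃ g : G, g • pI o = pJ o ∧ g • pI o' = pJ o' := by
    intro o o'
    have hw : ∀ w : P, ∃ g : G, g • X = a • X ∧ g • w.1 = w.1 := fun w =>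
      w.2.elim (fun hw => ⟨a, rfl, hw⟩) (fun hw => ⟨b, hx, hw⟩)
    rcases o with _ | _ | w <;> rcases o' with _ | _ | w'
    all_goals first
      | exact ⟨a, rfl, rfl⟩
      | exact ⟨1, one_smul _ _, one_smul _ _⟩
      | (obtain ⟨g, g1, g2⟩ := hw ‹P›
         first | exact ⟨g, g1, g2⟩ | exact ⟨g, g2, g1⟩)
  obtain ⟨g, hg⟩ := hB (Fintype.card (Option (Option P))) (fun i => pI (e.symm i)) (fun i => pJ (e.symm i))
    hcard (fun i j _ => hpair _ _)
  have hgo : ∀ o, g • pI o = pJ o := fun o => by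
    have := hg (e o)
    simpa using this
  refine ⟨g, fun y hy => ?_, fun y hy => ?_, ?_⟩
  · exact (smul_mk_eq_iff H g y).1 (hgo (some (some ⟨_, Or.inl ((smul_mk_eq_iff H a y).2 hy)⟩)))
  · exact (smul_mk_eq_iff H g y).1 (hgo (some (some ⟨_, Or.inr ((smul_mk_eq_iff H b y).2 hy)⟩)))
  · refine (smul_mk_eq_iff H (g⁻¹ * a) x).1 ?_
    rw [mul_smul, inv_smul_eq_iff]
    exact (hgo none).symm

/-- Binarity is invariant under isomorphisms. -/
theorem Bin.map {G' : Type*} [Group G'] (e : G ≃* G') {H : Subgroup G} (hB : Bin H) :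
    Bin (H.map e.toMonoidHom) := by
  classical
  let φ : G ⧸ H → G' ⧸ H.map e.toMonoidHom := fun w => Quotient.liftOn' w
    (fun x => QuotientGroup.mk (e x)) (fun x y hxy => by
      rw [QuotientGroup.leftRel_apply] at hxy
      rw [QuotientGroup.eq]
      exact ⟨x⁻¹ * y, hxy, by simp⟩)
  have hφ : ∀ x : G, φ (QuotientGroup.mk x) = QuotientGroup.mk (e x) := fun _ => rfl
  have heq : ∀ (g : G) (w : G ⧸ H), φ (g • w) = e g • φ w := by
    intro g w
    obtain ⟨x, rfl⟩ := QuotientGroup.mk_surjective w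
    rw [MulAction.Quotient.smul_mk, smul_eq_mul, hφ, hφ, MulAction.Quotient.smul_mk, smul_eq_mul, map_mul]
  have hinj : Function.Injective φ := by
    intro u v huv
    obtain ⟨x, rfl⟩ := QuotientGroup.mk_surjective u
    obtain ⟨y, rfl⟩ := QuotientGroup.mk_surjective v
    rw [hφ, hφ, QuotientGroup.eq] at huv
    rw [QuotientGroup.eq]
    obtain ⟨z, hz, hze⟩ := huv
    have : z = x⁻¹ * y := e.injective (by simpa using hze)
    rwa [← this]
  have hsurj : Function.Surjective φ := by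
    intro w
    obtain ⟨y, rfl⟩ := QuotientGroup.mk_surjective w
    exact ⟨QuotientGroup.mk (e.symm y), by rw [hφ, e.apply_symm_apply]⟩
  intro n I J hn hp
  choose I' hI using fun i => hsurj (I i)
  choose J' hJ using fun i => hsurj (J i)
  obtain ⟨g, hg⟩ := hB n I' J' hn fun i j hij => by
    obtain ⟨g, gi, gj⟩ := hp i j hij
    refine ⟨e.symm g, hinj ?_, hinj ?_⟩ <;> rw [heq, e.apply_symm_apply, hI, hJ]
    · exact gi
    · exact gj
  exact ⟨e g, fun i => by rw [← hI, ← hJ, ← heq, hg i]⟩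

theorem Bin.map_iff {G' : Type*} [Group G'] (e : G ≃* G') (H : Subgroup G) :
    Bin (H.map e.toMonoidHom) ↔ Bin H := by
  refine ⟨fun hB => ?_, fun hB => hB.map e⟩
  have := hB.map e.symm
  rwa [Subgroup.map_map, show e.symm.toMonoidHom.comp e.toMonoidHom = MonoidHom.id G from
    MonoidHom.ext fun x => e.symm_apply_apply x, Subgroup.map_id] at this

/-- Conjugation invariance. -/
theorem Bin.conj {H : Subgroup G} (hB : Bin H) (x : G) : Bin (H.map (MulAut.conj x).toMonoidHom) :=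
  hB.map (MulAut.conj x)

/-- A criterion for binarity: any two point stabilisers are comparable or meet trivially, and every
product relation between elements of three stabilisers is degenerate. -/
theorem bin_of_tri (H : Subgroup G)
    (hTI : ∀ u v : G, (∀ g, u⁻¹ * g * u ∈ H → v⁻¹ * g * v ∈ H) ∨
      ∀ g, u⁻¹ * g * u ∈ H → v⁻¹ * g * v ∈ H → g = 1)
    (htri : ∀ u v w g k : G, g ≠ k → u⁻¹ * g * u ∈ H → v⁻¹ * k * v ∈ H →
      w⁻¹ * (k⁻¹ * g) * w ∈ H → w⁻¹ * g * w ∈ H ∨ w⁻¹ * k * w ∈ H) :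
    Bin H := by
  intro n I J hn hp
  choose r hr using fun i => QuotientGroup.mk_surjective (I i)
  have hst : ∀ i a, (r i)⁻¹ * a * r i ∈ H ↔ a • I i = I i := fun i a => by
    rw [← hr i, smul_mk_eq_iff]
  by_cases hex : ∃ i i' : Fin n, i ≠ i' ∧ ∀ g : G, g • I i = I i → g • I i' = I i' → g = 1
  · obtain ⟨i0, i, hi, htriv⟩ := hex
    obtain ⟨g, hg0, hgi⟩ := hp i0 i hi
    refine ⟨g, fun j => ?_⟩
    by_cases hj0 : i0 = j
    · rw [← hj0, hg0]
    by_cases hji : i = j
    · rw [← hji, hgi]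
    obtain ⟨g₀, a0, b0⟩ := hp i0 j hj0
    obtain ⟨g₁, a1, b1⟩ := hp i j hji
    have h0 : (g⁻¹ * g₀) • I i0 = I i0 := by rw [mul_smul, a0, ← hg0, inv_smul_smul]
    have h1 : (g⁻¹ * g₁) • I i = I i := by rw [mul_smul, a1, ← hgi, inv_smul_smul]
    have h2 : ((g⁻¹ * g₁)⁻¹ * (g⁻¹ * g₀)) • I j = I j := by
      rw [show (g⁻¹ * g₁)⁻¹ * (g⁻¹ * g₀) = g₁⁻¹ * g₀ by group, mul_smul, b0, ← b1, inv_smul_smul]
    by_cases hgk : g⁻¹ * g₀ = g⁻¹ * g₁
    · have he := htriv _ h0 (hgk ▸ h1)
      rw [inv_mul_eq_one] at he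
      rw [he, b0]
    rcases htri _ _ _ _ _ hgk ((hst _ _).2 h0) ((hst _ _).2 h1) ((hst _ _).2 h2) with e | e
    · rw [hst, mul_smul, inv_smul_eq_iff, b0] at e
      exact e.symm
    · rw [hst, mul_smul, inv_smul_eq_iff, b1] at e
      exact e.symm
  · push Not at hex
    have hsub : ∀ i i' : Fin n, i ≠ i' → ∀ g : G, g • I i = I i → g • I i' = I i' := by
      intro i i' hii g hg
      obtain ⟨z, z1, z2, z3⟩ := hex i i' hii
      rcases hTI (r i) (r i') with hle | htr
      · exact (hst _ _).1 (hle g ((hst _ _).2 hg))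
      · exact absurd (htr z ((hst _ _).2 z1) ((hst _ _).2 z2)) z3
    have i0 : Fin n := ⟨0, by omega⟩
    obtain ⟨i, hi⟩ : ∃ k : Fin n, k ≠ i0 := by
      have : Nontrivial (Fin n) := ⟨⟨⟨0, by omega⟩, ⟨1, by omega⟩, by simp⟩⟩
      exact exists_ne i0
    obtain ⟨g, hg0, -⟩ := hp i0 i hi.symm
    refine ⟨g, fun j => ?_⟩
    by_cases hj0 : i0 = j
    · rw [← hj0, hg0]
    obtain ⟨g₀, a0, b0⟩ := hp i0 j hj0
    have h0 : (g⁻¹ * g₀) • I i0 = I i0 := by rw [mul_smul, a0, ← hg0, inv_smul_smul]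
    have := hsub i0 j hj0 _ h0
    rw [mul_smul, inv_smul_eq_iff, b0] at this
    exact this.symm

end Cfsg.Agent.Lib.SzBinary56
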