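import Cfsg.Agent.Lib.SzBinary56.Odd
import Cfsg.Agent.Lib.SzSolubilizer.Pairs
import Cfsg.Agent.Lib.SzSubgroups.Trichotomy
import Mathlib

/-!
The binary transitive actions of a Suzuki group.
-/

set_option autoImplicit false
set_option linter.unusedSectionVars false

namespace Cfsg.Agent.Lib.SzBinary56

open Cfsg.Agent.Lib.LieTwisted.Suzuki Cfsg.Agent.Lib.SzElements.Basic Cfsg.Agent.Lib.SzTori
open Cfsg.Agent.Lib.SzSolubilizer

/-- The centre of a subgroup, inside the ambient group. -/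
theorem mem_center_map {G : Type*} [Group G] {P : Subgroup G} {g : G} :
    g ∈ (Subgroup.center P).map P.subtype ↔ g ∈ P ∧ ∀ y ∈ P, y * g = g * y := by
  constructor
  · rintro ⟨⟨x, hx⟩, hc, rfl⟩
    exact ⟨hx, fun y hy => congrArg Subtype.val (Subgroup.mem_center_iff.1 hc ⟨y, hy⟩)⟩
  · rintro ⟨hg, hc⟩
    exact ⟨⟨g, hg⟩, Subgroup.mem_center_iff.2 fun y => Subtype.ext (hc _ y.2), rfl⟩

theorem center_map_equiv {G G' : Type*} [Group G] [Group G'] (e : G ≃* G') (P : Subgroup G) :
    (Subgroup.center (P.map e.toMonoidHom)).map (P.map e.toMonoidHom).subtype =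
      ((Subgroup.center P).map P.subtype).map e.toMonoidHom := by
  ext g
  rw [mem_center_map]
  constructor
  · rintro ⟨⟨x, hx, rfl⟩, hc⟩
    refine ⟨x, mem_center_map.2 ⟨hx, fun y hy => e.injective ?_⟩, rfl⟩
    rw [map_mul, map_mul]
    exact hc _ ⟨y, hy, rfl⟩
  · rintro ⟨x, hx, rfl⟩
    obtain ⟨hxP, hc⟩ := mem_center_map.1 hx
    refine ⟨⟨x, hxP, rfl⟩, ?_⟩
    rintro _ ⟨y, hy, rfl⟩
    rw [← map_mul, ← map_mul, hc y hy]

variable {F : Type*} [Field F] [Fintype F] {m : ℕ}

local notation "∞'" => (opt m (none : Option (F × F)))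

variable (h : IsSzField F m) (hm : 1 ≤ m)
include h hm

/-- The only fixed point of a non-trivial element of a conjugate of the centre. -/
theorem centre_fix_only {u g : Cfsg.Sz F m} (hg : u⁻¹ * g * u ∈ unipCenter h) (hg1 : g ≠ 1) :
    g • (u • ∞') = u • ∞' ∧
      ∀ P : Projectivization F (Fin 4 → F), IsPt m P → g • P = P → P = u • ∞' := by
  obtain ⟨b, hb⟩ := hg
  have hge : g = u * uS h 0 b * u⁻¹ := by rw [← hb]; group
  have hb0 : b ≠ 0 := fun e => hg1 (by rw [hge, e, h.uS_zero]; group)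
  refine ⟨by rw [hge, mul_smul, mul_smul, inv_smul_smul, h.uS_smul_none], fun P hP hgP => ?_⟩
  obtain ⟨p, rfl⟩ := hP
  obtain ⟨r, hr⟩ := exists_opt h hm u⁻¹ p
  rw [hge, mul_smul, mul_smul, ← eq_inv_smul_iff, hr] at hgP
  have := fix_point h (fun e => hb0 e.2) hgP
  rw [this] at hr
  rw [← hr, smul_inv_smul]

/-- Conjugates of the centre attached to the same point agree. -/
theorem centre_of_point {u w g : Cfsg.Sz F m} (hg : u⁻¹ * g * u ∈ unipCenter h)
    (heq : u • ∞' = w • ∞') : w⁻¹ * g * w ∈ unipCenter h := by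
  obtain ⟨b, hb⟩ := hg
  obtain ⟨c, d, e, hk⟩ := h.eq_of_fix_none hm (g := w⁻¹ * u)
    (by rw [mul_smul, heq, inv_smul_smul])
  refine ⟨sg m (e : F) * (e : F) ^ 2 * b, ?_⟩
  rw [← conj_center h c d e b, ← hk, ← hb]
  group

/-- The action on the cosets of the centre of a Sylow subgroup is binary. -/
theorem bin_centre : Bin (unipCenter h) := by
  have hinv : ∀ {u g : Cfsg.Sz F m}, u⁻¹ * g * u ∈ unipCenter h → g * g = 1 := by
    intro u g hg
    obtain ⟨b, hb⟩ := hg
    rw [show g = u * uS h 0 b * u⁻¹ by rw [← hb]; group,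
      show u * uS h 0 b * u⁻¹ * (u * uS h 0 b * u⁻¹) = u * (uS h 0 b * uS h 0 b) * u⁻¹ by group,
      centre_mul, add_self_zero h, h.uS_zero]
    group
  refine bin_of_tri _ (fun u v => ?_) fun u v w g k hgk hg hk hc => ?_
  · by_cases huv : u • ∞' = v • ∞'
    · exact Or.inl fun g hg => centre_of_point h hm hg huv
    · refine Or.inr fun g hg hg' => ?_
      by_contra hg1
      exact huv ((centre_fix_only h hm hg' hg1).2 _ (isPt_smul h hm u ⟨none, rfl⟩)
        (centre_fix_only h hm hg hg1).1)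
  · by_cases hg1 : g = 1
    · left; rw [hg1, mul_one, inv_mul_cancel]; exact one_mem _
    by_cases hk1 : k = 1
    · right; rw [hk1, mul_one, inv_mul_cancel]; exact one_mem _
    left
    obtain ⟨gu, gonly⟩ := centre_fix_only h hm hg hg1
    obtain ⟨kv, konly⟩ := centre_fix_only h hm hk hk1
    obtain ⟨-, conly⟩ := centre_fix_only h hm hc (fun e => hgk (inv_mul_eq_one.1 e).symm)
    have hcomm : g * k = k * g := by
      have hki : k⁻¹ = k := inv_eq_of_mul_eq_one_right (hinv hk)
      have hgi : g⁻¹ = g := inv_eq_of_mul_eq_one_right (hinv hg)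
      have := inv_eq_of_mul_eq_one_right (hinv hc)
      rw [mul_inv_rev, inv_inv, hki, hgi] at this
      exact this
    have hku : k • (u • ∞') = u • ∞' :=
      gonly _ (isPt_smul h hm k (isPt_smul h hm u ⟨none, rfl⟩)) (by rw [← mul_smul, hcomm, mul_smul, gu])
    refine centre_of_point h hm hg (conly _ (isPt_smul h hm u ⟨none, rfl⟩) ?_)
    rw [mul_smul, gu, inv_smul_eq_iff, hku]

/-- The trivial action is binary. -/
theorem bin_bot : Bin (⊥ : Subgroup (Cfsg.Sz F m)) := by
  refine bin_of_tri _ (fun u v => Or.inr fun g hg _ => ?_) fun u v w g k _ hg hk hc => Or.inl ?_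
  · rw [Subgroup.mem_bot] at hg
    calc g = u * (u⁻¹ * g * u) * u⁻¹ := by group
      _ = 1 := by rw [hg]; group
  · rw [Subgroup.mem_bot] at hg ⊢
    rw [show g = u * (u⁻¹ * g * u) * u⁻¹ by group, hg]
    group

/-- The classification of the binary coset actions. -/
theorem bin_iff {H : Subgroup (Cfsg.Sz F m)} (hH : H ≠ ⊤) :
    Bin H ↔ H = ⊥ ∨ ∃ x : Cfsg.Sz F m, H = (unipCenter h).map (MulAut.conj x).toMonoidHom := by
  refine ⟨fun hB => ?_, ?_⟩
  · by_cases hev : ∃ t ∈ H, t * t = 1 ∧ t ≠ 1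
    · obtain ⟨t, ht, ht2, ht1⟩ := hev
      obtain ⟨p, hp⟩ := exists_fix_of_four h hm (g := t)
        ((pow_add t 2 2).trans (by rw [sq, ht2, one_mul])) ht1
      obtain ⟨k, hk⟩ := exists_conj_fix h hm (H := Subgroup.zpowers t) (P := opt m p) ⟨p, rfl⟩
        (fun s hs => by
          obtain ⟨n, rfl⟩ := Subgroup.mem_zpowers_iff.1 hs
          exact (MulAction.mem_stabilizer_iff.1
            ((MulAction.stabilizer (Cfsg.Sz F m) (opt m p)).zpow_mem (MulAction.mem_stabilizer_iff.2 hp) n)))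
      have hkt := hk _ ⟨t, Subgroup.mem_zpowers t, rfl⟩
      set M := H.map (MulAut.conj k).toMonoidHom with hM
      have ht' : MulAut.conj k t ∈ M := ⟨t, ht, rfl⟩
      obtain ⟨b, hb⟩ := inv_stab_eq h hm (s := MulAut.conj k t)
        (by rw [sq, ← map_mul, ht2, map_one]) hkt
      have hb0 : b ≠ 0 := fun e => ht1 ((MulAut.conj k).injective (by rw [map_one, hb, e, h.uS_zero]))
      have hMtop : M ≠ ⊤ := SzSubgroups.map_conj_ne_top h hm hH k
      have hBM : Bin M := hB.conj k
      have hZ := centre_mem h hm hBM hMtop hb0 (hb ▸ ht')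
      have hfix := fix_of_centre h hm hMtop hZ
      have hMeq := eq_centre_of_bin h hm hBM hfix hZ
      refine Or.inr ⟨k⁻¹, ?_⟩
      rw [← hMeq, hM, Subgroup.map_map]
      convert (Subgroup.map_id H).symm using 2
      ext s; simp [mul_assoc]
    · left
      by_contra hne
      refine not_bin_odd h hm (fun t ht ht2 => ?_) hne hB
      by_contra ht1
      exact hev ⟨t, ht, ht2, ht1⟩
  · rintro (rfl | ⟨x, rfl⟩)
    · exact bin_bot h hm
    · exact (bin_centre h hm).conj x

/-- The centres of the Sylow two-subgroups. -/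
theorem exists_sylow_centre_iff (H : Subgroup (Cfsg.Sz F m)) :
    (∃ P : Sylow 2 (Cfsg.Sz F m), H = (Subgroup.center (P : Subgroup (Cfsg.Sz F m))).map
        (P : Subgroup (Cfsg.Sz F m)).subtype) ↔
      ∃ x : Cfsg.Sz F m, H = (unipCenter h).map (MulAut.conj x).toMonoidHom := by
  have hle : unipCenter h ≤ unip h := fun g ⟨b, hb⟩ => ⟨0, b, hb⟩
  have hZ : ∀ x : Cfsg.Sz F m, (Subgroup.center ((unip h).map (MulAut.conj x).toMonoidHom)).map
      ((unip h).map (MulAut.conj x).toMonoidHom).subtype =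
        (unipCenter h).map (MulAut.conj x).toMonoidHom := by
    intro x
    rw [center_map_equiv, h.center_unip hm, Subgroup.subgroupOf_map_subtype, inf_eq_left.2 hle]
  constructor
  · rintro ⟨P, rfl⟩
    obtain ⟨x, hx⟩ := h.conj_sylow hm P
    exact ⟨x, by rw [hx]; exact hZ x⟩
  · rintro ⟨x, rfl⟩
    obtain ⟨S, hS⟩ := h.exists_sylow hm
    refine ⟨x • S, ?_⟩
    rw [Sylow.coe_subgroup_smul, hS]
    exact (hZ x).symm

omit hm in
/-- Transport along an isomorphism. -/
theorem bin_iff_equiv (hm : 1 ≤ m) {G : Type*} [Group G] (e : Cfsg.Sz F m ≃* G) (H : Subgroup G)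
    (hH : H ≠ ⊤) :
    Bin H ↔ H = ⊥ ∨ ∃ P : Sylow 2 G, H = (Subgroup.center (P : Subgroup G)).map (P : Subgroup G).subtype := by
  haveI : Finite G := Finite.of_equiv _ e.toEquiv
  haveI : Fact (Nat.Prime 2) := ⟨Nat.prime_two⟩
  set K := H.map e.symm.toMonoidHom with hK
  have hHK : H = K.map e.toMonoidHom := by
    rw [hK, Subgroup.map_map]
    convert (Subgroup.map_id H).symm using 2
    ext s; simp
  have hKtop : K ≠ ⊤ := fun z => hH (by
    rw [hHK, z, Subgroup.map_top_of_surjective _ e.surjective])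
  rw [hHK, Bin.map_iff, bin_iff h hm hKtop, ← exists_sylow_centre_iff h hm,
    Subgroup.map_eq_bot_iff_of_injective (f := e.toMonoidHom) K e.injective]
  refine or_congr Iff.rfl ⟨?_, ?_⟩
  · rintro ⟨P, hP⟩
    have hs : Function.Surjective e.toMonoidHom := e.surjective
    refine ⟨P.mapSurjective hs, ?_⟩
    rw [Sylow.coe_mapSurjective, center_map_equiv, hP]
  · rintro ⟨P, hP⟩
    have hs : Function.Surjective e.symm.toMonoidHom := e.symm.surjective
    refine ⟨P.mapSurjective hs, ?_⟩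
    rw [Sylow.coe_mapSurjective, center_map_equiv, ← hP, Subgroup.map_map]
    convert (Subgroup.map_id K).symm using 2
    ext s; simp

end Cfsg.Agent.Lib.SzBinary56
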