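import Cfsg.Agent.Lib.SzBinary56.Even
import Mathlib

/-!
Binary coset actions of a Suzuki group with a point stabiliser inside a Borel subgroup.
-/

set_option autoImplicit false
set_option linter.unusedSectionVars false

namespace Cfsg.Agent.Lib.SzBinary56

open Cfsg.Agent.Lib.LieTwisted.Suzuki Cfsg.Agent.Lib.SzElements.Basic Cfsg.Agent.Lib.SzTori

variable {F : Type*} [Field F] [Fintype F] {m : ℕ}

local notation "∞'" => (opt m (none : Option (F × F)))

variable (h : IsSzField F m) (hm : 1 ≤ m)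
include h hm

/-- A subgroup of centre-by-torus shape with non-trivial torus part is not binary. -/
theorem not_bin_frob {H : Subgroup (Cfsg.Sz F m)}
    (hshape : ∀ g ∈ H, ∃ (d : F) (e : Fˣ), g = uS h 0 d * dS h e) {l : Fˣ} (hl : dS h l ∈ H) (hl1 : l ≠ 1) :
    ¬ Bin H := by
  intro hB
  set b := uS h 1 0 * dS h l⁻¹ * (uS h 1 0)⁻¹ with hb
  have hll : l * l ≠ 1 := fun e => inv_ne_self h hm hl1 (inv_eq_of_mul_eq_one_right e)
  obtain ⟨p, r, hpr⟩ : ∃ p r, b⁻¹ * dS h l = uS h p r * dS h (l * l) ∧ p = 1 + sg m (l : F) := by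
    obtain ⟨r, hr⟩ := borel_conj' h 1 0 0 0 l
    rw [h.uS_zero, one_mul, add_zero, mul_one] at hr
    refine ⟨_, r, ?_, rfl⟩
    rw [hb, mul_inv_rev, mul_inv_rev, inv_inv, map_inv, inv_inv, ← mul_assoc, hr, mul_assoc, ← map_mul]
  obtain ⟨hpr, hp⟩ := hpr
  obtain ⟨c, d, hcd⟩ := borel_cases h hm (a := p) (b := r) hll
  obtain ⟨g, g1, g2, g3⟩ := hB.key (dS h l) b (uS h c d) (by
    rw [hpr, hcd, map_mul]; exact H.mul_mem hl hl)
  have hg : g ∈ H := by
    have := g1 1 (by simpa using hl)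
    simpa using this
  obtain ⟨d', e, rfl⟩ := hshape g hg
  have h2 := g2 (uS h 1 0) (by
    rw [hb, show (uS h 1 0)⁻¹ * (uS h 1 0 * dS h l⁻¹ * (uS h 1 0)⁻¹) * uS h 1 0 = dS h l⁻¹ by group, map_inv]
    exact H.inv_mem hl)
  obtain ⟨r₂, hr₂⟩ := borel_conj h 1 0 0 d' e
  obtain ⟨d₂, e₂, he₂⟩ := hshape _ h2
  rw [hr₂] at he₂
  have he : e = 1 := by
    by_contra he
    refine sg_ne_one h hm he ?_
    have := (h.borel_coords_inj he₂).1
    linear_combination this - h.two0
  subst he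
  rw [map_one, mul_one, centre_inv, show uS h 0 d' * dS h l = uS h 0 d' * dS h l from rfl] at g3
  obtain ⟨r₃, hr₃⟩ := borel_conj h c d 0 d' l
  obtain ⟨d₃, e₃, he₃⟩ := hshape _ g3
  rw [hr₃] at he₃
  have hc : c = 0 := by
    by_contra hc
    refine sg_ne_one h hm hl1 (mul_right_cancel₀ hc ?_)
    have := (h.borel_coords_inj he₃).1
    linear_combination this - c * h.two0
  subst hc
  obtain ⟨r₄, hr₄⟩ := borel_conj' h 0 d 0 0 (l * l)
  rw [h.uS_zero, one_mul] at hr₄
  have h5 : uS h p r * dS h (l * l) = uS h (0 + 0 + sg m ((l * l : Fˣ) : F) * 0) r₄ * dS h (l * l) := by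
    rw [← hr₄]
    calc uS h p r * dS h (l * l)
        = uS h 0 d * ((uS h 0 d)⁻¹ * (uS h p r * dS h (l * l)) * uS h 0 d) * (uS h 0 d)⁻¹ := by group
      _ = _ := by rw [hcd]
  have := (h.borel_coords_inj h5).1
  exact sg_ne_one h hm hl1 (by linear_combination this - hp - h.two0)

/-- The case of a full root group. -/
theorem not_bin_unip {H : Subgroup (Cfsg.Sz F m)} (hfix : ∀ g ∈ H, g • ∞' = ∞')
    (hU : ∀ a b, uS h a b ∈ H) : ¬ Bin H := by
  classical
  intro hB
  let T0 : Subgroup Fˣ := H.comap (dS h)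
  have hT : ∀ a b e, uS h a b * dS h e ∈ H → e ∈ T0 := fun a b e he => by
    have := H.mul_mem (H.inv_mem (hU a b)) he
    rwa [inv_mul_cancel_left] at this
  let D := {p : F × F // p ≠ (0, 0)}
  have hbru : ∀ p : D, ∃ a b f, ∃ r ∈ H, wS h * uS h p.1.1 p.1.2 * wS h = uS h a b * wS h * (dS h f * r) := by
    intro p
    obtain ⟨a, b, e, heq | ⟨x, y, heq⟩⟩ := h.bruhat hm (wS h * uS h p.1.1 p.1.2 * wS h)
    · exfalso
      refine p.2 ?_
      have h1 := congrArg (fun g => g • ∞') heq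
      simp only [mul_smul, h.wS_smul_none, h.uS_smul_zero, h.dS_smul_none, h.uS_smul_none] at h1
      have h2 : opt m (some (p.1.1, p.1.2)) = opt m (some (0, 0)) := by
        rw [← h.wS_smul_none, ← h1, ← mul_smul, h.wS_mul_self, one_smul]
      obtain ⟨z1, z2⟩ := Prod.ext_iff.1 (Option.some.inj (opt_injective h2))
      exact Prod.ext z1 z2
    · refine ⟨x, y, e, _, hU (sg m ((e⁻¹ : Fˣ) : F) * a) (sg m ((e⁻¹ : Fˣ) : F) * ((e⁻¹ : Fˣ) : F) ^ 2 * b), ?_⟩
      rw [heq, h.uS_mul_dS]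
  choose A B f R hR hABR using hbru
  -- two points with the same colour differ by an element of the torus part
  have hcol : ∀ p p' : D, (QuotientGroup.mk (f p) : Fˣ ⧸ T0) = QuotientGroup.mk (f p') →
      ∃ e ∈ T0, p'.1 = (sg m (e : F) * p.1.1, sg m (e : F) * (e : F) ^ 2 * p.1.2) := by
    intro p p' hpp
    rw [QuotientGroup.eq] at hpp
    set u := uS h p.1.1 p.1.2
    set u' := uS h p'.1.1 p'.1.2
    set v := uS h (A p) (B p)
    set v' := uS h (A p') (B p')
    set a := u' * u⁻¹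
    set b := wS h * (v' * v⁻¹) * wS h
    have hbH : (u * wS h)⁻¹ * (b⁻¹ * a) * (u * wS h) ∈ H := by
      have e1 : wS h * u * wS h = v * wS h * (dS h (f p) * R p) := hABR p
      have e2 : wS h * u' * wS h = v' * wS h * (dS h (f p') * R p') := hABR p'
      have hkey : (u * wS h)⁻¹ * (b⁻¹ * a) * (u * wS h) =
          (v' * v⁻¹ * (wS h * u * wS h))⁻¹ * (wS h * u' * wS h) := by
        simp only [a, b, mul_inv_rev, inv_inv, h.wS_inv, mul_assoc, inv_mul_cancel_left]
      rw [hkey, e1, e2, show (v' * v⁻¹ * (v * wS h * (dS h (f p) * R p)))⁻¹ * (v' * wS h * (dS h (f p') * R p')) =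
        (R p)⁻¹ * ((dS h (f p))⁻¹ * dS h (f p')) * R p' by group, ← map_inv, ← map_mul]
      exact H.mul_mem (H.mul_mem (H.inv_mem (hR p)) hpp) (hR p')
    obtain ⟨g, g1, g2, g3⟩ := hB.key a b (u * wS h) hbH
    have hg : g ∈ H := by
      have := g1 1 (by simpa using H.mul_mem (hU _ _) (H.inv_mem (hU _ _)))
      simpa using this
    have hgw : (wS h)⁻¹ * g * wS h ∈ H := g2 (wS h) (by
      simp only [b, h.wS_inv, mul_assoc, h.wS_mul_self, mul_one]
      rw [← mul_assoc, ← mul_assoc, h.wS_mul_self, one_mul]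
      exact H.mul_mem (hU _ _) (H.inv_mem (hU _ _)))
    obtain ⟨c, d, e, rfl⟩ := h.eq_of_fix_none hm (hfix g hg)
    have hcd := hfix _ hgw
    rw [mul_smul, h.wS_smul_none, mul_smul, inv_smul_eq_iff, h.wS_smul_none, mul_smul, h.dS_smul_zero,
      h.uS_smul_zero] at hcd
    obtain ⟨rfl, rfl⟩ := Prod.ext_iff.1 (Option.some.inj (opt_injective hcd))
    refine ⟨e, hT _ _ _ hg, ?_⟩
    have h3 := hfix _ g3
    rw [mul_smul, mul_smul, inv_smul_eq_iff] at h3
    simp only [a, u, u', h.uS_zero, one_mul, mul_smul, h.wS_smul_none, h.uS_smul_zero] at h3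
    rw [inv_smul_eq_iff, h.dS_smul_some, inv_smul_eq_iff.2 (h.uS_smul_zero p.1.1 p.1.2).symm,
      h.uS_smul_zero] at h3
    exact Option.some.inj (opt_injective h3)
  -- counting
  have hfib : ∀ c : Fˣ ⧸ T0, (Finset.univ.filter fun p : D => QuotientGroup.mk (f p) = c).card ≤ Nat.card T0 := by
    intro c
    rcases (Finset.univ.filter fun p : D => QuotientGroup.mk (f p) = c).eq_empty_or_nonempty with e | ⟨p, hp⟩
    · rw [e, Finset.card_empty]; exact Nat.zero_le _
    have hp' := (Finset.mem_filter.1 hp).2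
    refine le_trans (Finset.card_le_card (t := Finset.univ.filter fun p' : D => ∃ e ∈ T0,
      p'.1 = (sg m (e : F) * p.1.1, sg m (e : F) * (e : F) ^ 2 * p.1.2)) fun p' hp'' => ?_) ?_
    · exact Finset.mem_filter.2 ⟨Finset.mem_univ _,
        hcol p p' (hp'.trans (Finset.mem_filter.1 hp'').2.symm)⟩
    · rw [← Fintype.card_subtype, ← Nat.card_eq_fintype_card]
      refine Nat.card_le_card_of_injective (fun x => (⟨x.2.choose, x.2.choose_spec.1⟩ : T0)) fun x y e => ?_
      have ee : x.2.choose = y.2.choose := congrArg Subtype.val e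
      refine Subtype.ext (Subtype.ext ?_)
      rw [x.2.choose_spec.2, y.2.choose_spec.2, ee]
  have hle : Fintype.card D ≤ Fintype.card F - 1 := by
    rw [← Finset.card_univ, Finset.card_eq_sum_card_fiberwise (t := (Finset.univ : Finset (Fˣ ⧸ T0)))
      (f := fun p : D => (QuotientGroup.mk (f p) : Fˣ ⧸ T0)) fun _ _ => Finset.mem_univ _]
    refine le_trans (Finset.sum_le_sum fun c _ => hfib c) ?_
    rw [Finset.sum_const, smul_eq_mul, Finset.card_univ, ← Nat.card_eq_fintype_card,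
      ← T0.card_eq_card_quotient_mul_card_subgroup, Nat.card_units, Nat.card_eq_fintype_card]
  have hD : Fintype.card D = Fintype.card F * Fintype.card F - 1 := by
    rw [Fintype.card_subtype_compl, Fintype.card_subtype_eq, Fintype.card_prod]
  have h8 := card_eight h hm
  have : Fintype.card F * 8 ≤ Fintype.card F * Fintype.card F := Nat.mul_le_mul_left _ h8
  omega

/-- The Borel case. -/
theorem eq_centre_of_bin {H : Subgroup (Cfsg.Sz F m)} (hB : Bin H) (hfix : ∀ g ∈ H, g • ∞' = ∞')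
    (hZ : ∀ b, uS h 0 b ∈ H) : H = unipCenter h := by
  by_cases hU : ∀ a b, uS h a b ∈ H
  · exact absurd hB (not_bin_unip h hm hfix hU)
  push Not at hU
  obtain ⟨a₀, b₀, hab⟩ := hU
  have hQ0 : a₀ ∉ fstGroup h H := fun ⟨b, hb⟩ => hab (uS_swap h hZ hb b₀)
  by_cases hQ : ∃ a b, uS h a b ∈ H ∧ a ≠ 0
  · exfalso
    obtain ⟨c, d, hcd, hc⟩ := hQ
    set v := uS h c d
    obtain ⟨r₀, hub⟩ : ∃ r₀, uS h a₀ 0 * v⁻¹ = uS h (a₀ + c) r₀ := by
      rw [h.uS_inv, h.uS_mul]; exact ⟨_, rfl⟩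
    obtain ⟨g, g1, g2, g3⟩ := hB.key (uS h a₀ 0) (uS h (a₀ + c) r₀) 1 (by
      rw [← hub, inv_one, one_mul, mul_one, mul_inv_rev, inv_inv,
        show v * (uS h a₀ 0)⁻¹ * uS h a₀ 0 = v by group]
      exact hcd)
    rw [inv_one, one_mul, mul_one] at g3
    -- the element fixing all points fixed by a unipotent element
    have hS : ∀ {p r : F}, p ≠ 0 → ∀ {g : Cfsg.Sz F m}, InS H (uS h p r) g →
        ∃ s t, g = uS h s t ∧ ∀ l, l * p ∈ fstGroup h H → l * s ∈ fstGroup h H := by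
      intro p r hp g hg
      have hy : ∀ x (e : Fˣ), sg m (e : F) * p ∈ fstGroup h H →
          dS h e * ((uS h x 0)⁻¹ * g * uS h x 0) * (dS h e)⁻¹ ∈ H := by
        intro x e ⟨b, hb⟩
        have := hg (uS h x 0 * (dS h e)⁻¹) (by
          rw [mul_inv_rev, inv_inv, show dS h e * (uS h x 0)⁻¹ * uS h p r * (uS h x 0 * (dS h e)⁻¹) =
            dS h e * ((uS h x 0)⁻¹ * (uS h p r * dS h (1 : Fˣ)) * uS h x 0) * (dS h e)⁻¹ by
              rw [map_one]; group]
          obtain ⟨r', hr'⟩ := borel_conj h x 0 p r 1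
          rw [hr', map_one, mul_one, Units.val_one, sg_one, one_mul, dS_conj_uS,
            show x + p + x = p by linear_combination x * h.two0]
          exact uS_swap h hZ hb _)
        rwa [mul_inv_rev, inv_inv, show dS h e * (uS h x 0)⁻¹ * g * (uS h x 0 * (dS h e)⁻¹) =
            dS h e * ((uS h x 0)⁻¹ * g * uS h x 0) * (dS h e)⁻¹ by group] at this
      obtain ⟨e₀, he₀⟩ := h.sg_surjective (c / p)
      have he₀0 : e₀ ≠ 0 := fun z => by rw [z, sg_zero] at he₀; exact div_ne_zero hc hp he₀.symm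
      have hE : sg m ((Units.mk0 e₀ he₀0 : Fˣ) : F) * p ∈ fstGroup h H := by
        rw [Units.val_mk0, he₀, div_mul_cancel₀ _ hp]; exact ⟨d, hcd⟩
      set E := Units.mk0 e₀ he₀0
      have hgfix : g • ∞' = ∞' := by
        have := hfix _ (hy 0 E hE)
        simpa [h.uS_zero, mul_smul, h.dS_smul_none, ← map_inv, inv_smul_eq_iff, smul_eq_iff_eq_inv_smul] using this
      obtain ⟨s, t, eg, rfl⟩ := h.eq_of_fix_none hm hgfix
      have hcoord : ∀ x e, sg m ((e : Fˣ) : F) * p ∈ fstGroup h H → ∃ r,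
          uS h (sg m (e : F) * (x + s + sg m (eg : F) * x)) r * dS h eg ∈ H := by
        intro x e he
        obtain ⟨r', hr'⟩ := borel_conj h x 0 s t eg
        have := hy x e he
        rw [hr', show dS h e * (uS h (x + s + sg m (eg : F) * x) r' * dS h eg) * (dS h e)⁻¹ =
          dS h e * uS h (x + s + sg m (eg : F) * x) r' * (dS h e)⁻¹ * (dS h e * dS h eg * (dS h e)⁻¹) by group,
          ← map_inv, ← map_mul, ← map_mul, mul_inv_cancel_comm, map_inv, dS_conj_uS] at this
        exact ⟨_, this⟩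
      have heg : eg = 1 := by
        by_contra heg
        refine hQ0 ?_
        have hne : sg m (E : F) * (1 + sg m (eg : F)) ≠ 0 := mul_ne_zero (mt sg_eq_zero.1 E.ne_zero)
          fun z => sg_ne_one h hm heg (by linear_combination z - h.two0)
        obtain ⟨r1, h1⟩ := hcoord (a₀ / (sg m (E : F) * (1 + sg m (eg : F)))) E hE
        obtain ⟨r2, h2⟩ := hcoord 0 E hE
        have h3 := H.mul_mem h1 (H.inv_mem h2)
        rw [mul_inv_rev, show ∀ X Y, X * dS h eg * ((dS h eg)⁻¹ * Y) = X * Y from fun X Y => by group,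
          h.uS_inv, h.uS_mul] at h3
        rw [show a₀ = sg m (E : F) * (a₀ / (sg m (E : F) * (1 + sg m (eg : F))) + s +
            sg m (eg : F) * (a₀ / (sg m (E : F) * (1 + sg m (eg : F))))) +
            sg m (E : F) * (0 + s + sg m (eg : F) * 0) by
          have e3 := div_mul_cancel₀ a₀ hne
          linear_combination -e3 - sg m (E : F) * s * h.two0]
        exact ⟨_, h3⟩
      subst heg
      rw [map_one, mul_one]
      refine ⟨s, t, rfl, fun l hl => ?_⟩
      by_cases h0 : l = 0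
      · rw [h0, zero_mul]; exact zero_mem _
      obtain ⟨e, rfl⟩ := h.sg_surjective l
      have he0 : e ≠ 0 := fun z => h0 (by rw [z, sg_zero])
      obtain ⟨r', hr'⟩ := hcoord 0 (Units.mk0 e he0) hl
      rw [map_one, mul_one, Units.val_mk0, Units.val_one, sg_one, zero_add, mul_zero, add_zero] at hr'
      exact ⟨r', hr'⟩
    have ha₀ : a₀ ≠ 0 := fun e => hQ0 (by rw [e]; exact zero_mem _)
    have hac : a₀ + c ≠ 0 := fun e => hQ0 (by
      rw [show a₀ = c by linear_combination e - c * h.two0]; exact ⟨d, hcd⟩)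
    obtain ⟨s, t, rfl, hs1⟩ := hS ha₀ g1
    obtain ⟨s', t', hs', hs2⟩ := hS hac g2
    obtain rfl : s = s' := (h.uS_coords_inj hs').1
    rw [h.uS_inv, h.uS_mul] at g3
    exact scaled_absurd (fstGroup h H) ⟨d, hcd⟩ hc hQ0 hs1 hs2 ⟨_, g3⟩
  · push Not at hQ
    refine le_antisymm (fun g hg => ?_) (by rintro _ ⟨b, rfl⟩; exact hZ b)
    obtain ⟨a, b, e, rfl⟩ := h.eq_of_fix_none hm (hfix g hg)
    by_contra hne
    have he : e ≠ 1 := by
      rintro rfl
      rw [map_one, mul_one] at hg hne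
      exact hne ⟨b, by rw [hQ a b hg]⟩
    obtain ⟨x, y, hxy⟩ := borel_cases h hm (a := a) (b := b) he
    set M := H.map (MulAut.conj (uS h x y)⁻¹).toMonoidHom with hM
    have hmem : ∀ p, p ∈ H → (uS h x y)⁻¹ * p * uS h x y ∈ M := fun p hp => ⟨p, hp, by simp⟩
    refine not_bin_frob h hm (H := M) ?_ (hxy ▸ hmem _ hg) he (hB.conj _)
    intro q hq
    obtain ⟨p, hp, hpe⟩ := hq
    obtain ⟨c, d, f, rfl⟩ := h.eq_of_fix_none hm (hfix p hp)
    obtain ⟨r, hr⟩ := borel_conj h x y c d f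
    have hq' : q = uS h (x + c + sg m (f : F) * x) r * dS h f := by rw [← hpe, ← hr]; simp
    refine ⟨r, f, ?_⟩
    suffices hz : x + c + sg m (f : F) * x = 0 by rw [hq', hz]
    obtain ⟨r1, hr1⟩ := borel_mul h a b c d e f
    obtain ⟨r2, hr2⟩ := borel_mul h c d a b f e
    have h3 := H.mul_mem (H.mul_mem hg hp) (H.inv_mem (H.mul_mem hp hg))
    rw [hr1, hr2, mul_comm f e, mul_inv_rev,
      show ∀ X Y, X * dS h (e * f) * ((dS h (e * f))⁻¹ * Y) = X * Y from fun X Y => by group,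
      h.uS_inv, h.uS_mul] at h3
    have h4 := hQ _ _ h3
    obtain ⟨r5, hr5⟩ := borel_conj h x y a b e
    rw [hxy] at hr5
    have h5 := (h.borel_coords_inj (hr5.symm.trans (by rw [h.uS_zero, one_mul] :
      dS h e = uS h 0 0 * dS h e))).1
    refine (mul_eq_zero.1 (?_ : (1 + sg m (e : F)) * (x + c + sg m (f : F) * x) = 0)).resolve_left
      fun z => sg_ne_one h hm he (by linear_combination z - h.two0)
    linear_combination h4 + (1 + sg m (f : F)) * h5 - (a + a * sg m (f : F)) * h.two0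

end Cfsg.Agent.Lib.SzBinary56
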