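import Cfsg.Agent.Lib.SzBinary56.Basic
import Cfsg.Agent.Lib.SzTori.Basic
import Cfsg.Agent.Lib.SzElements.Basic
import Mathlib

/-!
Coordinates in the Borel subgroup of a Suzuki group, and lemmas on additive subgroups of the field
and their scalar multiples.
-/

set_option autoImplicit false
set_option linter.unusedSectionVars false

namespace Cfsg.Agent.Lib.SzBinary56

open Cfsg.Agent.Lib.LieTwisted.Suzuki Cfsg.Agent.Lib.SzElements.Basic

variable {F : Type*} [Field F] [Fintype F]

/-- Two additive translates cannot be separated by the scalar multiples of a subgroup. -/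
theorem scaled_absurd (V : AddSubgroup F) {a c g : F} (hc : c ∈ V) (hc0 : c ≠ 0) (ha : a ∉ V)
    (h1 : ∀ l, l * a ∈ V → l * g ∈ V) (h2 : ∀ l, l * (a + c) ∈ V → l * g ∈ V) (hg : g + a ∈ V) : False := by
  classical
  let L : F → Finset F := fun x => Finset.univ.filter fun l => l * x ∈ V
  have hcard : ∀ x : F, x ≠ 0 → (L x).card = (Finset.univ.filter fun v => v ∈ V).card := by
    intro x hx
    refine Finset.card_bij (fun l _ => l * x) (fun l hl => ?_) (fun l _ l' _ e => mul_right_cancel₀ hx e) ?_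
    · exact Finset.mem_filter.2 ⟨Finset.mem_univ _, (Finset.mem_filter.1 hl).2⟩
    · intro v hv
      refine ⟨v / x, Finset.mem_filter.2 ⟨Finset.mem_univ _, ?_⟩, div_mul_cancel₀ v hx⟩
      rw [div_mul_cancel₀ v hx]; exact (Finset.mem_filter.1 hv).2
  have heq : ∀ x y : F, x ≠ 0 → y ≠ 0 → (∀ l, l * x ∈ V → l * y ∈ V) → ∀ l, l * y ∈ V → l * x ∈ V := by
    intro x y hx hy hxy l hl
    have hsub : L x ⊆ L y := fun t ht =>
      Finset.mem_filter.2 ⟨Finset.mem_univ _, hxy t (Finset.mem_filter.1 ht).2⟩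
    have := Finset.eq_of_subset_of_card_le hsub (by rw [hcard x hx, hcard y hy])
    have hl' : l ∈ L x := by rw [this]; exact Finset.mem_filter.2 ⟨Finset.mem_univ _, hl⟩
    exact (Finset.mem_filter.1 hl').2
  have ha0 : a ≠ 0 := fun e => ha (e ▸ V.zero_mem)
  have hg0 : g ≠ 0 := fun e => ha (by rwa [e, zero_add] at hg)
  have hb0 : a + c ≠ 0 := fun e => ha (by
    rw [show a = -c from eq_neg_of_add_eq_zero_left e]; exact V.neg_mem hc)
  have hac : ∀ l, l * a ∈ V → l * c ∈ V := fun l hl => by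
    have := V.sub_mem (heq _ _ hb0 hg0 h2 l (h1 l hl)) hl
    rwa [mul_add, add_sub_cancel_left] at this
  have := heq a c ha0 hc0 hac 1 (by rwa [one_mul])
  rw [one_mul] at this
  exact ha this

/-- A hyperplane has no large set of multipliers. -/
theorem hyperplane_absurd (hq : 8 ≤ Fintype.card F)
    (V W : AddSubgroup F) (hV : V ≠ ⊤) (hW : Fintype.card F ≤ 2 * Nat.card W) {a : F} (ha : a ≠ 0)
    (hav : ∀ l, l * a ∈ V → ∀ w ∈ W, l * w ∈ V) (hVW : ∃ v ∈ V, v ≠ 0) : False := by
  classical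
  have hFV : Nat.card V * 2 ≤ Fintype.card F := by
    have h1 := V.card_mul_index
    rw [Nat.card_eq_fintype_card (α := F)] at h1
    have h2 : 2 ≤ V.index := by
      have h0 : V.index ≠ 0 := fun e => by rw [e, mul_zero] at h1; omega
      have h1' : V.index ≠ 1 := fun e => hV (AddSubgroup.index_eq_one.1 e)
      omega
    calc Nat.card V * 2 ≤ Nat.card V * V.index := Nat.mul_le_mul_left _ h2
      _ = _ := h1
  let Lu := {l : Fˣ // (l : F) * a ∈ V}
  have himg : ∀ l : Lu, ∀ v ∈ V, ∃ w ∈ W, ((l.1 : Fˣ) : F) * w = v := by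
    intro l v hv
    let f : W → V := fun w => ⟨(l.1 : F) * w.1, hav _ l.2 _ w.2⟩
    have hinj : Function.Injective f := fun x y e =>
      Subtype.ext (mul_left_cancel₀ l.1.ne_zero (congrArg Subtype.val e))
    obtain ⟨w, hw⟩ := (hinj.bijective_of_nat_card_le (by omega)).2 ⟨v, hv⟩
    exact ⟨w.1, w.2, congrArg Subtype.val hw⟩
  have hVc : Nat.card V * 2 = Fintype.card F := by
    obtain ⟨v, hv, hv0⟩ := hVW
    let l : Lu := ⟨Units.mk0 (v / a) (div_ne_zero hv0 ha), by rw [Units.val_mk0, div_mul_cancel₀ v ha]; exact hv⟩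
    let f : W → V := fun w => ⟨(l.1 : F) * w.1, hav _ l.2 _ w.2⟩
    have hinj : Function.Injective f := fun x y e =>
      Subtype.ext (mul_left_cancel₀ l.1.ne_zero (congrArg Subtype.val e))
    have := Nat.card_le_card_of_injective f hinj
    omega
  have hWc : Nat.card W * 2 = Fintype.card F := by
    obtain ⟨v, hv, hv0⟩ := hVW
    let l : Lu := ⟨Units.mk0 (v / a) (div_ne_zero hv0 ha), by rw [Units.val_mk0, div_mul_cancel₀ v ha]; exact hv⟩
    let f : W → V := fun w => ⟨(l.1 : F) * w.1, hav _ l.2 _ w.2⟩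
    have hinj : Function.Injective f := fun x y e =>
      Subtype.ext (mul_left_cancel₀ l.1.ne_zero (congrArg Subtype.val e))
    have := Nat.card_le_card_of_injective f hinj
    omega
  let M : Subgroup Fˣ :=
    { carrier := {u | ∀ w, (u : F) * w ∈ W ↔ w ∈ W}
      one_mem' := fun w => by simp
      mul_mem' := fun {u v} hu hv w => by rw [Units.val_mul, mul_assoc, hu, hv]
      inv_mem' := fun {u} hu w => by
        rw [← hu, ← mul_assoc, ← Units.val_mul, mul_inv_cancel, Units.val_one, one_mul] }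
  have hLu : Nat.card Lu = Nat.card V - 1 := by
    have e : Lu ≃ {v : V // v ≠ 0} :=
      { toFun := fun l => ⟨⟨(l.1 : F) * a, l.2⟩, fun z => mul_ne_zero l.1.ne_zero ha (congrArg Subtype.val z)⟩
        invFun := fun v => ⟨Units.mk0 (v.1.1 / a) (div_ne_zero (fun z => v.2 (Subtype.ext z)) ha), by
          rw [Units.val_mk0, div_mul_cancel₀ _ ha]; exact v.1.2⟩
        left_inv := fun l => Subtype.ext (Units.ext (mul_div_cancel_right₀ _ ha))
        right_inv := fun v => Subtype.ext (Subtype.ext (div_mul_cancel₀ _ ha)) }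
    rw [Nat.card_congr e, Nat.card_eq_fintype_card, Nat.card_eq_fintype_card, Fintype.card_subtype_compl,
      Fintype.card_subtype_eq]
  have hne : Nonempty Lu := by
    obtain ⟨v, hv, hv0⟩ := hVW
    exact ⟨⟨Units.mk0 (v / a) (div_ne_zero hv0 ha), by rw [Units.val_mk0, div_mul_cancel₀ v ha]; exact hv⟩⟩
  obtain ⟨l₀⟩ := hne
  have hmem : ∀ l : Lu, l₀.1⁻¹ * l.1 ∈ M := by
    intro l w
    constructor
    · intro hw
      have h3 := hav _ l₀.2 _ hw
      rw [← mul_assoc, ← Units.val_mul, mul_inv_cancel_left] at h3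
      obtain ⟨w', hw', e⟩ := himg l _ h3
      rwa [← mul_left_cancel₀ l.1.ne_zero e]
    · intro hw
      obtain ⟨w', hw', e⟩ := himg l₀ _ (hav _ l.2 _ hw)
      rwa [Units.val_mul, mul_assoc, ← e, ← mul_assoc, ← Units.val_mul, inv_mul_cancel, Units.val_one,
        one_mul]
  have h1 : Nat.card Lu ≤ Nat.card M :=
    Nat.card_le_card_of_injective (fun l => (⟨_, hmem l⟩ : M))
      (fun x y e => Subtype.ext (mul_left_cancel (congrArg Subtype.val e)))
  have h2 : Nat.card M ≤ Nat.card V - 1 := by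
    obtain ⟨w₀, hw₀⟩ : ∃ w : W, w ≠ 0 := by
      have h4 : 2 ≤ Nat.card W := by omega
      by_contra hc
      push Not at hc
      have : Subsingleton W := ⟨fun x y => (hc x).trans (hc y).symm⟩
      rw [Nat.card_of_subsingleton (0 : W)] at h4
      omega
    have hw0 : (w₀ : F) ≠ 0 := fun z => hw₀ (Subtype.ext z)
    let f : M → {w : W // w ≠ 0} := fun u => ⟨⟨(u.1 : F) * w₀, (u.2 _).2 w₀.2⟩, fun z =>
      mul_ne_zero u.1.ne_zero hw0 (congrArg Subtype.val z)⟩
    have h5 := Nat.card_le_card_of_injective f fun x y e => Subtype.ext (Units.ext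
      (mul_right_cancel₀ hw0 (congrArg Subtype.val (congrArg Subtype.val e))))
    have h6 : Nat.card {w : W // w ≠ 0} = Nat.card W - 1 := by
      rw [Nat.card_eq_fintype_card, Nat.card_eq_fintype_card, Fintype.card_subtype_compl,
        Fintype.card_subtype_eq]
    omega
  have h7 : Nat.card M ∣ Fintype.card F - 1 := by
    have := Subgroup.card_subgroup_dvd_card M
    rwa [Nat.card_units, Nat.card_eq_fintype_card (α := F)] at this
  obtain ⟨k, hk⟩ := h7
  have hk2 : k = 2 := by
    rcases Nat.lt_or_ge k 2 with hk' | hk'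
    · interval_cases k <;> omega
    rcases Nat.lt_or_ge k 3 with hk'' | hk''
    · omega
    · have := Nat.mul_le_mul_left (Nat.card M) hk''
      omega
  subst hk2
  omega

variable {m : ℕ} (h : IsSzField F m) (hm : 1 ≤ m)
include h

theorem add_self_zero (x : F) : x + x = 0 := by linear_combination x * h.two0

theorem dS_conj_uS (e : Fˣ) (a b : F) :
    dS h e * uS h a b * (dS h e)⁻¹ = uS h (sg m (e : F) * a) (sg m (e : F) * (e : F) ^ 2 * b) := by
  rw [h.dS_mul_uS, mul_inv_cancel_right]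

theorem borel_mul (a b c d : F) (e f : Fˣ) :
    ∃ r, uS h a b * dS h e * (uS h c d * dS h f) = uS h (a + sg m (e : F) * c) r * dS h (e * f) := by
  rw [mul_assoc (uS h a b), ← mul_assoc (dS h e), h.dS_mul_uS, mul_assoc (uS h _ _), ← map_mul,
    ← mul_assoc, h.uS_mul]
  exact ⟨_, rfl⟩

theorem borel_conj (x y a b : F) (e : Fˣ) :
    ∃ r, (uS h x y)⁻¹ * (uS h a b * dS h e) * uS h x y = uS h (x + a + sg m (e : F) * x) r * dS h e := by
  rw [mul_assoc, mul_assoc (uS h a b), h.dS_mul_uS, ← mul_assoc (uS h a b), h.uS_mul, h.uS_inv,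
    ← mul_assoc, h.uS_mul, ← add_assoc]
  exact ⟨_, rfl⟩

theorem borel_conj' (x y a b : F) (e : Fˣ) :
    ∃ r, uS h x y * (uS h a b * dS h e) * (uS h x y)⁻¹ = uS h (x + a + sg m (e : F) * x) r * dS h e := by
  have h1 := borel_conj h x (y + sg m x * x) a b e
  rw [← h.uS_inv, inv_inv] at h1
  exact h1

theorem centre_mul (a b d : F) : uS h 0 d * uS h a b = uS h a (d + b) := by
  rw [h.uS_mul, sg_zero, zero_mul, add_zero, zero_add]

theorem centre_inv (d : F) : (uS h 0 d)⁻¹ = uS h 0 d := by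
  rw [h.uS_inv, sg_zero, zero_mul, add_zero]

theorem uS_swap {H : Subgroup (Cfsg.Sz F m)} (hZ : ∀ d, uS h 0 d ∈ H) {a b : F} (hab : uS h a b ∈ H)
    (b' : F) : uS h a b' ∈ H := by
  have := H.mul_mem (hZ (b' - b)) hab
  rwa [centre_mul, sub_add_cancel] at this

/-- The first coordinates of the unipotent elements of a subgroup. -/
def fstGroup (H : Subgroup (Cfsg.Sz F m)) : AddSubgroup F where
  carrier := {a | ∃ b, uS h a b ∈ H}
  zero_mem' := ⟨0, by rw [h.uS_zero]; exact H.one_mem⟩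
  add_mem' := by
    rintro a c ⟨b, hb⟩ ⟨d, hd⟩
    have := H.mul_mem hb hd
    rw [h.uS_mul] at this
    exact ⟨_, this⟩
  neg_mem' := by
    rintro a ⟨b, hb⟩
    exact ⟨b, by rwa [h.neg_eq]⟩

theorem mem_fstGroup {H : Subgroup (Cfsg.Sz F m)} {a : F} : a ∈ fstGroup h H ↔ ∃ b, uS h a b ∈ H :=
  Iff.rfl

/-- The central coordinates of a subgroup. -/
def centreGroup (H : Subgroup (Cfsg.Sz F m)) : AddSubgroup F where
  carrier := {b | uS h 0 b ∈ H}
  zero_mem' := by
    show uS h 0 0 ∈ H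
    rw [h.uS_zero]; exact H.one_mem
  add_mem' := by
    intro a c ha hc
    have := H.mul_mem ha hc
    rwa [centre_mul] at this
  neg_mem' := by intro a ha; show _ ∈ H; rwa [h.neg_eq]

theorem mem_centreGroup {H : Subgroup (Cfsg.Sz F m)} {b : F} : b ∈ centreGroup h H ↔ uS h 0 b ∈ H :=
  Iff.rfl

end Cfsg.Agent.Lib.SzBinary56
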