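import Cfsg.Agent.Lib.SzBinary56.Even
import Cfsg.Agent.Lib.SzSolubilizer.Solvable
import Cfsg.Agent.Lib.SzChars.Table
import Mathlib

/-!
Products of two conjugates of elements of a subgroup of a fixed-point-free torus lie in a third
conjugate, with the conjugating element outside of the normaliser: a character count.
-/

set_option autoImplicit false
set_option linter.unusedSectionVars false

namespace Cfsg.Agent.Lib.SzBinary56

open Cfsg.Agent.Lib.LieTwisted.Suzuki Cfsg.Agent.Lib.SzElements.Basic Cfsg.Agent.Lib.SzTori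
open Cfsg.Agent.Lib.Characters.Basic Cfsg.Agent.Lib.Characters.Complete
open scoped ComplexConjugate

/-- The number of solutions of `x * (a y a⁻¹) * (b u b⁻¹) = 1` with `x y u` in a given set. -/
theorem card_solutions {G : Type*} [Group G] [Fintype G] [DecidableEq G]
    [Fintype (Cfsg.IrrCharacter G)] (D : Finset G) :
    ((((D ×ˢ D) ×ˢ D) ×ˢ ((Finset.univ : Finset G) ×ˢ (Finset.univ : Finset G))).filter
        fun p => p.1.1.1 * (p.2.1 * p.1.1.2 * p.2.1⁻¹) * (p.2.2 * p.1.2 * p.2.2⁻¹) = 1).card =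
      (Nat.card G : ℂ) *
        ∑ χ : Cfsg.IrrCharacter G, (∑ x ∈ D, (χ : G → ℂ) x) ^ 3 / (χ : G → ℂ) 1 := by
  set P := ((D ×ˢ D) ×ˢ D) ×ˢ ((Finset.univ : Finset G) ×ˢ (Finset.univ : Finset G))
  set f : ((G × G) × G) × (G × G) → G :=
    fun p => p.1.1.1 * (p.2.1 * p.1.1.2 * p.2.1⁻¹) * (p.2.2 * p.1.2 * p.2.2⁻¹)
  have hG : (Nat.card G : ℂ) ≠ 0 := Nat.cast_ne_zero.mpr Nat.card_pos.ne'
  have hkey : ∀ χ : Cfsg.IrrCharacter G, ∑ p ∈ P, (χ : G → ℂ) (f p) =
      (Nat.card G : ℂ) ^ 2 * (∑ x ∈ D, (χ : G → ℂ) x) ^ 3 / (χ : G → ℂ) 1 ^ 2 := by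
    intro χ
    have h1 := apply_one_ne_zero χ
    calc ∑ p ∈ P, (χ : G → ℂ) (f p)
        = ∑ x ∈ D, ∑ y ∈ D, ∑ u ∈ D, ∑ a : G, ∑ b : G,
            (χ : G → ℂ) (x * (a * y * a⁻¹) * (b * u * b⁻¹)) := by
          simp only [P, f, Finset.sum_product]
      _ = ∑ x ∈ D, ∑ y ∈ D, ∑ u ∈ D,
            (Nat.card G : ℂ) * ((Nat.card G : ℂ) * (χ : G → ℂ) x * (χ : G → ℂ) y / (χ : G → ℂ) 1) *
              (χ : G → ℂ) u / (χ : G → ℂ) 1 := by
          simp only [H80.ClassMult.sum_apply_mul_conj, ← Finset.sum_div, ← Finset.sum_mul, ← Finset.mul_sum]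
      _ = _ := by
          simp only [← Finset.sum_div, ← Finset.sum_mul, ← Finset.mul_sum, mul_div_assoc, pow_three]
          field_simp
  refine mul_left_cancel₀ hG ?_
  calc (Nat.card G : ℂ) * ((P.filter fun p => f p = 1).card : ℂ)
      = ∑ p ∈ P, if f p = 1 then (Nat.card G : ℂ) else 0 := by
        rw [← Finset.sum_filter, Finset.sum_const, nsmul_eq_mul, mul_comm]
    _ = ∑ p ∈ P, ∑ χ : Cfsg.IrrCharacter G, (χ : G → ℂ) 1 * (χ : G → ℂ) (f p) :=
        Finset.sum_congr rfl fun p _ => (sum_degree_mul_apply (f p)).symm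
    _ = _ := by
        rw [Finset.sum_comm, Finset.mul_sum, Finset.mul_sum]
        refine Finset.sum_congr rfl fun χ _ => ?_
        have h1 := apply_one_ne_zero χ
        rw [← Finset.mul_sum, hkey]
        field_simp

variable {F : Type*} [Field F] [Fintype F] {m : ℕ}

local notation "GG" => (Cfsg.Sz F m)

variable (h : IsSzField F m) (hm : 1 ≤ m)
include h hm

theorem prime_ge_thirteen {p : ℕ} (hp : p.Prime) (hd : p ∣ Fintype.card F ^ 2 + 1) (h5 : p ≠ 5)
    {u : Cfsg.Sz F m} (hu : orderOf u = p) : 13 ≤ p := by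
  haveI : Fact p.Prime := ⟨hp⟩
  have ho := (singer h hm hp hu hd).1
  have hq0 : (Fintype.card F : ZMod p) ≠ 0 := fun z => by
    rw [z] at ho
    have := pow_orderOf_eq_one (0 : ZMod p)
    rw [ho, zero_pow (by norm_num)] at this
    exact zero_ne_one this
  have h4 : 4 ∣ p - 1 := ho ▸ orderOf_dvd_of_pow_eq_one (ZMod.pow_card_sub_one_eq_one hq0)
  have h2 := hp.two_le
  by_contra hc
  interval_cases p <;> first | omega | (exact absurd hp (by norm_num))

set_option maxHeartbeats 800000 in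
/-- A triangle with a side outside of the normaliser of the torus. -/
theorem exists_triangle {H : Subgroup (Cfsg.Sz F m)} {g : Cfsg.Sz F m} (hg : InE g)
    (hle : H ≤ cen g) (hne : H ≠ ⊥) (h5 : ¬ 5 ∣ Nat.card H) :
    ∃ x y u a v : Cfsg.Sz F m, x ∈ H ∧ x ≠ 1 ∧ y ∈ H ∧ y ≠ 1 ∧ u ∈ H ∧
      a ∉ Subgroup.normalizer (cen g : Set (Cfsg.Sz F m)) ∧ x * (a * y * a⁻¹) = v * u * v⁻¹ := by
  classical
  by_contra hno
  push Not at hno
  letI := Fintype.ofFinite (Cfsg.Sz F m)
  letI := Fintype.ofFinite (Cfsg.IrrCharacter (Cfsg.Sz F m))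
  set N := Subgroup.normalizer (cen g : Set GG) with hN
  set D := Finset.univ.filter fun x : GG => x ∈ H ∧ x ≠ 1 with hD
  have hDmem : ∀ {x : GG}, x ∈ D ↔ x ∈ H ∧ x ≠ 1 := by simp [hD]
  set t := Nat.card (cen g) with ht
  have hcen : ∀ c ∈ cen g, c ≠ 1 → Subgroup.centralizer ({c} : Set GG) = cen g :=
    fun c hc hc1 => torus_eq h hm hg hc hc1
  have hti := ti_of_centralizer (cen g) hcen
  have hTN : cen g ≤ N := Subgroup.le_normalizer
  have hNc : Nat.card N = 4 * t := SzSolubilizer.card_normalizer h hm hg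
  -- the size of `H`
  have hD12 : 12 ≤ D.card := by
    obtain ⟨p, hp, hpd⟩ := Nat.exists_prime_and_dvd (n := Nat.card H) fun e =>
      hne (Subgroup.eq_bot_of_card_eq H e)
    haveI : Fact p.Prime := ⟨hp⟩
    obtain ⟨u, hu⟩ := exists_prime_orderOf_dvd_card' p hpd
    rw [← Subgroup.orderOf_coe] at hu
    have h13 := prime_ge_thirteen h hm hp
      ((hpd.trans (Subgroup.card_dvd_of_le hle)).trans (torus_card_dvd h hm hg))
      (fun e => h5 (e ▸ hpd)) hu
    have h1 : D = (Finset.univ.filter fun x : GG => x ∈ H).erase 1 := by ext x; simp [hD, and_comm]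
    rw [h1, Finset.card_erase_of_mem (by simp [H.one_mem]), ← Fintype.card_subtype, ← Nat.card_eq_fintype_card]
    have h2 := Nat.le_of_dvd Nat.card_pos hpd
    change 12 ≤ Nat.card H - 1
    omega
  -- the character sums are integers
  have hS : ∀ χ : Cfsg.IrrCharacter GG, ∃ s : ℤ, ∑ x ∈ D, (χ : GG → ℂ) x = (s : ℂ) := by
    intro χ
    obtain ⟨n, hn⟩ := H80.ClassMult.exists_sum_subgroup χ H
    refine ⟨(Nat.card H : ℤ) * n - Cfsg.charDegree (χ : GG → ℂ), ?_⟩
    have h1 : D = (Finset.univ.filter fun x : GG => x ∈ H).erase 1 := by ext x; simp [hD, and_comm]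
    rw [h1, Finset.sum_erase_eq_sub (by simp [H.one_mem]),
      ← Finset.sum_subtype_eq_sum_filter, (H80.ClassMult.deg_spec χ).2]
    push_cast
    rw [← hn]
    simp
  choose s hs using hS
  -- the sum of the squares
  have hA : ∑ χ : Cfsg.IrrCharacter GG, s χ ^ 2 ≤ ((D.card * (4 * t) : ℕ) : ℤ) := by
    have heq : ∑ χ : Cfsg.IrrCharacter GG, s χ ^ 2 =
        ((∑ x ∈ D, (D.filter fun y => IsConj x y).card * t : ℕ) : ℤ) := by
      refine Int.cast_injective (α := ℂ) ?_
      push_cast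
      calc ∑ χ : Cfsg.IrrCharacter GG, (s χ : ℂ) ^ 2
          = ∑ χ : Cfsg.IrrCharacter GG, ∑ x ∈ D, ∑ y ∈ D, (χ : GG → ℂ) x * conj ((χ : GG → ℂ) y) := by
            refine Finset.sum_congr rfl fun χ _ => ?_
            rw [← Finset.sum_mul_sum, ← map_sum, hs, map_intCast, sq]
        _ = ∑ x ∈ D, ∑ y ∈ D, ∑ χ : Cfsg.IrrCharacter GG, (χ : GG → ℂ) x * conj ((χ : GG → ℂ) y) := by
            rw [Finset.sum_comm]
            exact Finset.sum_congr rfl fun x _ => Finset.sum_comm
        _ = _ := by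
            refine Finset.sum_congr rfl fun x hx => ?_
            simp only [sum_irr_mul_conj]
            refine Eq.trans (b := ∑ _y ∈ D.filter (fun y => IsConj x y),
              (Nat.card (Subgroup.centralizer ({x} : Set GG)) : ℂ)) ?_ ?_
            · rw [Finset.sum_filter (s := D) (p := fun y => IsConj x y)]
              refine Finset.sum_congr rfl fun y _ => ?_
              by_cases hxy : IsConj x y
              · rw [if_pos hxy, if_pos hxy]
              · rw [if_neg hxy, if_neg hxy]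
            rw [Finset.sum_const, nsmul_eq_mul, hcen x (hle (hDmem.1 hx).1) (hDmem.1 hx).2]
    rw [heq, Nat.cast_le, mul_comm 4 t, ← mul_assoc]
    calc ∑ x ∈ D, (D.filter fun y => IsConj x y).card * t ≤ ∑ _x ∈ D, 4 * t := by
          refine Finset.sum_le_sum fun x hx => Nat.mul_le_mul_right _ ?_
          obtain ⟨hxH, hx1⟩ := hDmem.1 hx
          have hch : ∀ y : (D.filter fun y => IsConj x y : Finset GG),
              ∃ n : N, (n : GG) * x * (n : GG)⁻¹ = y := by
            rintro ⟨y, hy⟩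
            obtain ⟨hyD, hxy⟩ := Finset.mem_filter.1 hy
            obtain ⟨c, hc⟩ := isConj_iff.1 hxy
            exact ⟨⟨c, hti c x (hle hxH) hx1 (by rw [hc]; exact hle (hDmem.1 hyD).1)⟩, hc⟩
          choose n hn using hch
          have hinj : Function.Injective
              fun y => (QuotientGroup.mk (n y) : N ⧸ (cen g).subgroupOf N) := by
            intro y y' e
            rw [QuotientGroup.eq, Subgroup.mem_subgroupOf] at e
            refine Subtype.ext ?_
            rw [← hn y, ← hn y']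
            have hc : ((n y : GG)⁻¹ * (n y' : GG)) * x = x * ((n y : GG)⁻¹ * (n y' : GG)) :=
              comm_of_cyclic (torus_cyclic h hm hg) e (hle hxH)
            have h2 := congrArg (fun w => (n y : GG) * w * (n y' : GG)⁻¹) hc
            simp only [← mul_assoc, mul_inv_cancel, one_mul] at h2
            simp only [mul_assoc, mul_inv_cancel, mul_one] at h2 ⊢
            exact h2.symm
          have h4 := Nat.card_le_card_of_injective _ hinj
          rw [Nat.card_eq_fintype_card, Fintype.card_coe] at h4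
          refine h4.trans (le_of_eq ?_)
          have h6 := Subgroup.card_eq_card_quotient_mul_card_subgroup ((cen g).subgroupOf N)
          rw [Nat.card_congr (Subgroup.subgroupOfEquivOfLe hTN).toEquiv, hNc, ← ht] at h6
          exact (Nat.eq_of_mul_eq_mul_right Nat.card_pos h6).symm
      _ = D.card * t * 4 := by rw [Finset.sum_const, smul_eq_mul]; ring
  -- the solutions
  have hsol := card_solutions D
  set Sol := ((((D ×ˢ D) ×ˢ D) ×ˢ ((Finset.univ : Finset GG) ×ˢ (Finset.univ : Finset GG))).filter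
        fun p => p.1.1.1 * (p.2.1 * p.1.1.2 * p.2.1⁻¹) * (p.2.2 * p.1.2 * p.2.2⁻¹) = 1) with hSol
  have hN2 : Sol.card ≤ D.card * D.card * ((4 * t) * (4 * t)) := by
    have hsub : ∀ p ∈ Sol, p.1.1.1 ∈ D ∧ p.1.1.2 ∈ D ∧ p.1.2 ∈ D ∧ p.2.1 ∈ N ∧ p.2.2 ∈ N ∧
        p.1.1.1 * (p.2.1 * p.1.1.2 * p.2.1⁻¹) * (p.2.2 * p.1.2 * p.2.2⁻¹) = 1 := by
      rintro ⟨⟨⟨x, y⟩, u⟩, a, b⟩ hp
      simp only [hSol, Finset.mem_filter, Finset.mem_product, Finset.mem_univ, and_true] at hp
      obtain ⟨⟨⟨hx, hy⟩, hu⟩, he⟩ := hp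
      obtain ⟨hxH, hx1⟩ := hDmem.1 hx
      obtain ⟨hyH, hy1⟩ := hDmem.1 hy
      obtain ⟨huH, hu1⟩ := hDmem.1 hu
      have ha : a ∈ N := by
        by_contra ha
        refine hno x y u⁻¹ a b hxH hx1 hyH hy1 (H.inv_mem huH) ha ?_
        rw [eq_inv_of_mul_eq_one_left he]
        group
      refine ⟨hx, hy, hu, ha, hti b u (hle huH) hu1 ?_, he⟩
      rw [eq_inv_of_mul_eq_one_right he]
      exact (cen g).inv_mem ((cen g).mul_mem (hle hxH)
        ((Subgroup.mem_normalizer_iff.1 ha y).1 (hle hyH)))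
    calc Sol.card ≤ ((D ×ˢ D) ×ˢ ((Finset.univ.filter fun a => a ∈ N) ×ˢ
          (Finset.univ.filter fun a => a ∈ N))).card := by
          refine Finset.card_le_card_of_injOn (fun p => ((p.1.1.1, p.1.1.2), (p.2.1, p.2.2)))
            (fun p hp => ?_) (fun p hp p' hp' e => ?_)
          · obtain ⟨h1, h2, -, h4, h5', -⟩ := hsub p hp
            simp [h1, h2, h4, h5']
          · obtain ⟨-, -, -, -, -, h6⟩ := hsub p hp
            obtain ⟨-, -, -, -, -, h6'⟩ := hsub p' hp'
            obtain ⟨⟨⟨x, y⟩, u⟩, a, b⟩ := p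
            obtain ⟨⟨⟨x', y'⟩, u'⟩, a', b'⟩ := p'
            simp only [Prod.mk.injEq] at e
            obtain ⟨⟨rfl, rfl⟩, rfl, rfl⟩ := e
            obtain rfl : u = u' :=
              mul_left_cancel (mul_right_cancel (mul_left_cancel (h6.trans h6'.symm)))
            rfl
      _ = _ := by
          have hNf : (Finset.univ.filter fun a : GG => a ∈ N).card = 4 * t := by
            rw [← Fintype.card_subtype, ← Nat.card_eq_fintype_card]
            exact hNc
          rw [Finset.card_product, Finset.card_product, Finset.card_product, hNf]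
  -- the real identity
  set d := fun χ : Cfsg.IrrCharacter GG => (Cfsg.charDegree (χ : GG → ℂ) : ℝ) with hd
  have hident : (Sol.card : ℝ) =
      (Nat.card GG : ℝ) * ∑ χ : Cfsg.IrrCharacter GG, (s χ : ℝ) ^ 3 / d χ := by
    refine Complex.ofReal_injective ?_
    push_cast
    rw [hsol]
    congr 1
    refine Finset.sum_congr rfl fun χ _ => ?_
    rw [hs, (H80.ClassMult.deg_spec χ).2]
    simp [hd]
  set one := oneChar GG
  have hs1 : s one = (D.card : ℤ) := by
    have := hs one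
    simp only [one, oneChar_apply, Finset.sum_const, nsmul_eq_mul, mul_one] at this
    exact_mod_cast this.symm
  have hd1 : d one = 1 := by
    have := (H80.ClassMult.deg_spec one).2
    simp only [one, oneChar_apply] at this
    simp only [hd]
    exact_mod_cast this.symm
  rw [← Finset.add_sum_erase _ _ (Finset.mem_univ one), hs1, hd1, div_one, Int.cast_natCast] at hident
  set R := ∑ χ ∈ (Finset.univ : Finset (Cfsg.IrrCharacter GG)).erase one, (s χ : ℝ) ^ 3 / d χ with hR
  set q : ℝ := (Fintype.card F : ℝ) with hq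
  have h8 : (8 : ℝ) ≤ q := by
    have := card_eight h hm
    rw [hq]; exact_mod_cast this
  have hGc : (Nat.card GG : ℝ) = q ^ 2 * (q ^ 2 + 1) * (q - 1) := by
    rw [h.card_group hm, hq]
    push_cast [Nat.cast_sub (show 1 ≤ Fintype.card F from Fintype.card_pos)]
    ring
  have htq : (t : ℝ) ≤ 2 * q := by
    have h1 : t ≤ 2 * Fintype.card F := by
      have hr : 2 ^ (m + 1) + 1 ≤ 2 ^ (2 * m + 1) := Nat.pow_lt_pow_right (by norm_num) (by omega)
      have := (torus_orders h hm).1 g hg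
      simp only [Set.mem_insert_iff, Set.mem_singleton_iff] at this
      rw [h.card]
      rcases this with e | e
      all_goals rw [ht, e]
      all_goals have := Nat.two_pow_pos (m + 1)
      all_goals omega
    rw [hq]; exact_mod_cast h1
  set M : ℝ := (D.card : ℝ) with hM
  have hM12 : (12 : ℝ) ≤ M := by rw [hM]; exact_mod_cast hD12
  -- the lower bound
  have hlow : M ^ 3 + R ≤ M ^ 2 := by
    have h1 : (Sol.card : ℝ) ≤ M * M * ((4 * t) * (4 * t)) := by rw [hM]; exact_mod_cast hN2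
    have ht0 : (0 : ℝ) ≤ t := Nat.cast_nonneg _
    have h2 : (4 * t : ℝ) * (4 * t) ≤ Nat.card GG := by
      rw [hGc]
      calc (4 * t : ℝ) * (4 * t) ≤ (8 * q) * (8 * q) :=
          mul_le_mul (by linarith) (by linarith) (by linarith) (by linarith)
        _ = q ^ 2 * 64 := by ring
        _ ≤ q ^ 2 * ((q ^ 2 + 1) * (q - 1)) := by
            refine mul_le_mul_of_nonneg_left ?_ (sq_nonneg q)
            nlinarith
        _ = _ := by ring
    have hG0 : (0 : ℝ) < Nat.card GG := Nat.cast_pos.2 Nat.card_pos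
    refine le_of_mul_le_mul_left ?_ hG0
    rw [← hident]
    calc (Sol.card : ℝ) ≤ M * M * ((4 * t) * (4 * t)) := h1
      _ ≤ M * M * Nat.card GG := by gcongr
      _ = _ := by ring
  -- the upper bound
  set w : ℝ := 2 ^ m * (q - 1) with hw
  have hw0 : 0 < w := by rw [hw]; have : (0:ℝ) < q - 1 := by linarith
                         positivity
  have hup : R ^ 2 * w ^ 2 ≤ (M * (4 * t)) ^ 3 := by
    set E := (Finset.univ : Finset (Cfsg.IrrCharacter GG)).erase one
    set A := ∑ χ ∈ E, (s χ : ℝ) ^ 2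
    have hA' : A ≤ M * (4 * t) := by
      have h1 : ∑ χ ∈ E, s χ ^ 2 ≤ ((D.card * (4 * t) : ℕ) : ℤ) :=
        (Finset.sum_le_sum_of_subset_of_nonneg (Finset.erase_subset _ _) fun χ _ _ => sq_nonneg _).trans hA
      have h2 : ((∑ χ ∈ E, s χ ^ 2 : ℤ) : ℝ) ≤ (((D.card * (4 * t) : ℕ) : ℤ) : ℝ) := Int.cast_le.2 h1
      push_cast at h2
      exact h2
    have hA0 : 0 ≤ A := Finset.sum_nonneg fun χ _ => sq_nonneg _
    have hB : |R| * w ≤ ∑ χ ∈ E, |(s χ : ℝ)| ^ 3 := by
      calc |R| * w ≤ (∑ χ ∈ E, |(s χ : ℝ) ^ 3 / d χ|) * w := by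
            gcongr; exact Finset.abs_sum_le_sum_abs _ _
        _ ≤ _ := by
            rw [Finset.sum_mul]
            refine Finset.sum_le_sum fun χ hχ => ?_
            have hge := SzChars.Table.degree_ge h hm χ (Finset.ne_of_mem_erase hχ)
            have hge' : w ≤ d χ := by
              have h1 : ((2 ^ m * (Fintype.card F - 1) : ℕ) : ℝ) ≤ d χ := by
                simp only [hd]; exact_mod_cast hge
              rw [hw, hq]
              push_cast [Nat.cast_sub (show 1 ≤ Fintype.card F from Fintype.card_pos)] at h1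
              exact h1
            have hd0 : 0 < d χ := hw0.trans_le hge'
            rw [abs_div, abs_pow, abs_of_pos hd0, div_mul_eq_mul_div, div_le_iff₀ hd0]
            exact mul_le_mul_of_nonneg_left hge' (by positivity)
    calc R ^ 2 * w ^ 2 = (|R| * w) ^ 2 := by rw [mul_pow |R|, sq_abs]
      _ ≤ (∑ χ ∈ E, |(s χ : ℝ)| * |(s χ : ℝ)| ^ 2) ^ 2 := by
          refine pow_le_pow_left₀ (by positivity) (hB.trans (le_of_eq ?_)) 2
          exact Finset.sum_congr rfl fun χ _ => by ring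
      _ ≤ (∑ χ ∈ E, |(s χ : ℝ)| ^ 2) * ∑ χ ∈ E, (|(s χ : ℝ)| ^ 2) ^ 2 :=
          Finset.sum_mul_sq_le_sq_mul_sq _ _ _
      _ ≤ A * A ^ 2 := by
          simp only [sq_abs]
          exact mul_le_mul_of_nonneg_left
            (Finset.sum_sq_le_sq_sum_of_nonneg fun χ _ => sq_nonneg _) hA0
      _ = A ^ 3 := by ring
      _ ≤ _ := pow_le_pow_left₀ hA0 hA' 3
  -- the contradiction
  have hR0 : (M ^ 2 * (M - 1)) ^ 2 ≤ R ^ 2 := by
    have h1 : M ^ 2 * (M - 1) ≤ -R := by linarith
    have h2 : (0 : ℝ) ≤ M ^ 2 * (M - 1) := mul_nonneg (sq_nonneg _) (by linarith)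
    calc (M ^ 2 * (M - 1)) ^ 2 ≤ (-R) ^ 2 := pow_le_pow_left₀ h2 h1 2
      _ = R ^ 2 := neg_sq R
  have hw2 : q * (q - 1) ^ 2 = 2 * w ^ 2 := by
    rw [hw, hq, h.card]; push_cast; ring
  have hM3 : M * (M - 1) ^ 2 * w ^ 2 ≤ 512 * q ^ 3 := by
    refine le_of_mul_le_mul_left ?_ (pow_pos (by linarith : (0 : ℝ) < M) 3)
    calc M ^ 3 * (M * (M - 1) ^ 2 * w ^ 2) = (M ^ 2 * (M - 1)) ^ 2 * w ^ 2 := by ring
      _ ≤ R ^ 2 * w ^ 2 := by gcongr
      _ ≤ (M * (4 * t)) ^ 3 := hup
      _ ≤ (M * (4 * (2 * q))) ^ 3 := by gcongr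
      _ = _ := by ring
  have hM4 : (1452 : ℝ) ≤ M * (M - 1) ^ 2 := by
    calc (1452 : ℝ) = 12 * 11 ^ 2 := by norm_num
      _ ≤ _ := by gcongr; linarith
  have hq1 : 49 * q ^ 2 ≤ 64 * (q - 1) ^ 2 := by nlinarith
  have h9 : 1452 * w ^ 2 ≤ 512 * q ^ 3 := le_trans (by gcongr) hM3
  have h10 := mul_le_mul_of_nonneg_left hq1 (by linarith : (0 : ℝ) ≤ q)
  have h11 : 49 * q ^ 3 ≤ 128 * w ^ 2 := by linear_combination h10 + 64 * hw2
  have h12 : (0 : ℝ) < q ^ 3 := pow_pos (by linarith) 3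
  linarith

end Cfsg.Agent.Lib.SzBinary56
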