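import Cfsg.Agent.Lib.SzBinary56.Coords
import Cfsg.Agent.Lib.SzSubgroups.Main
import Mathlib

/-!
Binary coset actions of a Suzuki group with a point stabiliser of even order, or contained in a
split torus extended by the centre.
-/

set_option autoImplicit false
set_option linter.unusedSectionVars false

namespace Cfsg.Agent.Lib.SzBinary56

open Cfsg.Agent.Lib.LieTwisted.Suzuki Cfsg.Agent.Lib.SzElements.Basic Cfsg.Agent.Lib.SzTori
open scoped commutatorElement

variable {F : Type*} [Field F] [Fintype F] {m : ℕ}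

local notation "∞'" => (opt m (none : Option (F × F)))

variable (h : IsSzField F m) (hm : 1 ≤ m)
include h hm

theorem card_eight : 8 ≤ Fintype.card F := by
  rw [h.card]
  calc 8 = 2 ^ 3 := by norm_num
    _ ≤ _ := Nat.pow_le_pow_right (by norm_num) (by omega)

/-- An element fixing every point fixed by a central involution `a` is central. -/
theorem inS_central {H : Subgroup (Cfsg.Sz F m)} (hH : H ≠ ⊤) {b₀ a₀ : F} (hb₀ : b₀ ≠ 0)
    (hb : uS h 0 b₀ ∈ H) (ha₀ : a₀ ≠ 0) (hV : centreGroup h H ≠ ⊤) {g : Cfsg.Sz F m}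
    (hg : InS H (uS h 0 a₀) g) :
    ∃ d, g = uS h 0 d ∧ ∀ l, l * a₀ ∈ centreGroup h H → l * d ∈ centreGroup h H := by
  classical
  let S : Subgroup (Cfsg.Sz F m) :=
    { carrier := {g | InS H (uS h 0 a₀) g}
      one_mem' := fun y _ => by simp [H.one_mem]
      mul_mem' := fun {p q} hp hq y hy => by
        have := H.mul_mem (hp y hy) (hq y hy)
        rwa [show y⁻¹ * p * y * (y⁻¹ * q * y) = y⁻¹ * (p * q) * y by group] at this
      inv_mem' := fun {p} hp y hy => by
        have := H.inv_mem (hp y hy)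
        rwa [show (y⁻¹ * p * y)⁻¹ = y⁻¹ * p⁻¹ * y by group] at this }
  have hnorm : ∀ u : Cfsg.Sz F m, u * uS h 0 a₀ = uS h 0 a₀ * u → ∀ s ∈ S, u * s * u⁻¹ ∈ S := by
    intro u hu s hs y hy
    have hy' : (u⁻¹ * y)⁻¹ * uS h 0 a₀ * (u⁻¹ * y) ∈ H := by
      rwa [show (u⁻¹ * y)⁻¹ * uS h 0 a₀ * (u⁻¹ * y) = y⁻¹ * (u * uS h 0 a₀) * u⁻¹ * y by group, hu,
        show y⁻¹ * (uS h 0 a₀ * u) * u⁻¹ * y = y⁻¹ * uS h 0 a₀ * y by group]
    have := hs _ hy'
    rwa [show (u⁻¹ * y)⁻¹ * s * (u⁻¹ * y) = y⁻¹ * (u * s * u⁻¹) * y by group] at this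
  have hscale : ∀ (e : Fˣ) (d : F), uS h 0 d ∈ S → SzSubfield.Basic.mu m (e : F) * a₀ ∈ centreGroup h H →
      SzSubfield.Basic.mu m (e : F) * d ∈ centreGroup h H := by
    intro e d hd he
    have := hd (dS h e)⁻¹ (by rw [inv_inv, dS_conj_uS, mul_zero]; exact he)
    rwa [inv_inv, dS_conj_uS, mul_zero] at this
  have hscale' : ∀ d : F, uS h 0 d ∈ S → ∀ l, l * a₀ ∈ centreGroup h H → l * d ∈ centreGroup h H := by
    intro d hd l hl
    by_cases h0 : l = 0
    · rw [h0, zero_mul]; exact zero_mem _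
    obtain ⟨e, he⟩ := scalar_surjective h h0
    have := hscale e d hd (by show (sg m (e : F) * (e : F) ^ 2) * a₀ ∈ _; rw [he]; exact hl)
    change (sg m (e : F) * (e : F) ^ 2) * d ∈ _ at this
    rwa [he] at this
  have hne : S ≠ ⊤ := by
    intro htop
    obtain ⟨e, he⟩ := scalar_surjective h (div_ne_zero hb₀ ha₀)
    refine hH ((Subgroup.eq_top_iff' H).2 fun x => ?_)
    have hy : (dS h e)⁻¹⁻¹ * uS h 0 a₀ * (dS h e)⁻¹ ∈ H := by
      rw [inv_inv, dS_conj_uS, mul_zero, he, div_mul_cancel₀ _ ha₀]; exact hb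
    have := (htop ▸ Subgroup.mem_top ((dS h e)⁻¹ * x * dS h e) : (dS h e)⁻¹ * x * dS h e ∈ S) _ hy
    rwa [inv_inv, show dS h e * ((dS h e)⁻¹ * x * dS h e) * (dS h e)⁻¹ = x by group] at this
  -- the elements fix the point at infinity
  have hfix : ∀ s ∈ S, s • ∞' = ∞' := by
    intro s hs
    by_contra hsn
    have hMtop : S ⊔ unip h = ⊤ :=
      h.eq_top_of_unip_le hm le_sup_right (Subgroup.mem_sup_left hs) hsn
    have hN : S.Normal := by
      rw [← Subgroup.normalizer_eq_top_iff, eq_top_iff, ← hMtop, sup_le_iff]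
      refine ⟨Subgroup.le_normalizer, ?_⟩
      rintro _ ⟨p, r, rfl⟩
      have hcomm : uS h p r * uS h 0 a₀ = uS h 0 a₀ * uS h p r := (h.uS_center_comm a₀ p r).symm
      have hcomm' : (uS h p r)⁻¹ * uS h 0 a₀ = uS h 0 a₀ * (uS h p r)⁻¹ :=
        (Commute.inv_left (a := uS h p r) hcomm).eq
      rw [Subgroup.mem_normalizer_iff]
      refine fun x => ⟨hnorm _ hcomm x, fun hx => ?_⟩
      have := hnorm _ hcomm' _ hx
      rwa [show (uS h p r)⁻¹ * (uS h p r * x * (uS h p r)⁻¹) * (uS h p r)⁻¹⁻¹ = x by group] at this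
    have := h.isSimple hm
    rcases hN.eq_bot_or_eq_top with e | e
    · rw [e, Subgroup.mem_bot] at hs
      exact hsn (by rw [hs, one_smul])
    · exact hne e
  have hno : ∀ c d, uS h c d ∈ S → c = 0 := by
    intro c d hcd
    by_contra hc
    let ψ : F →+ F :=
      { toFun := fun x => sg m x * c + sg m c * x
        map_zero' := by rw [sg_zero, zero_mul, mul_zero, add_zero]
        map_add' := fun x y => by rw [h.sg_add]; ring }
    have him : ∀ w ∈ ψ.range, uS h 0 w ∈ S := by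
      rintro _ ⟨x, rfl⟩
      have h1 := S.mul_mem (hnorm (uS h x 0) (h.uS_center_comm a₀ x 0).symm _ hcd) (S.inv_mem hcd)
      rw [show uS h x 0 * uS h c d * (uS h x 0)⁻¹ * (uS h c d)⁻¹ = ⁅uS h x 0, uS h c d⁆ by
        rw [commutatorElement_def], h.commElem_uS] at h1
      exact h1
    have hker : Nat.card ψ.ker ≤ 2 := by
      have hsub : ∀ x : ψ.ker, (x : F) / c = 0 ∨ (x : F) / c = 1 := by
        rintro ⟨x, hx⟩
        have h1 : sg m x * c + sg m c * x = 0 := hx
        by_contra hcon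
        push Not at hcon
        apply h.sg_ne_self hcon.1 hcon.2
        obtain ⟨t, rfl⟩ : ∃ t, x = t * c := ⟨x / c, (div_mul_cancel₀ x hc).symm⟩
        rw [sg_mul] at h1
        rw [mul_div_cancel_right₀ t hc]
        have h2 : sg m t + t = 0 := by
          have : (sg m t + t) * (sg m c * c) = 0 := by linear_combination h1
          exact (mul_eq_zero.1 this).resolve_right (mul_ne_zero (mt sg_eq_zero.1 hc) hc)
        linear_combination h2 - t * h.two0
      let f : ψ.ker → Bool := fun x => decide ((x : F) / c = 0)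
      have hf : Function.Injective f := by
        intro x y e
        refine Subtype.ext ((div_left_inj' hc).1 ?_)
        rcases hsub x with hx | hx <;> rcases hsub y with hy | hy <;> simp_all [f]
      simpa using Nat.card_le_card_of_injective f hf
    have hrange : Fintype.card F ≤ 2 * Nat.card ψ.range := by
      have h1 := ψ.ker.card_mul_index
      rw [AddSubgroup.index_ker, Nat.card_eq_fintype_card (α := F)] at h1
      rw [← h1]
      exact Nat.mul_le_mul_right _ hker
    exact hyperplane_absurd (card_eight h hm) (centreGroup h H) ψ.range hV hrange ha₀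
      (fun l hl w hw => hscale' w (him w hw) l hl) ⟨b₀, hb, hb₀⟩
  obtain ⟨c, d, e, rfl⟩ := h.eq_of_fix_none hm (hfix g hg)
  have he : e = 1 := by
    by_contra he
    have h1 := S.mul_mem (hnorm (uS h 1 0) (h.uS_center_comm a₀ 1 0).symm _ hg) (S.inv_mem hg)
    obtain ⟨r, hr⟩ := borel_conj' h 1 0 c d e
    rw [hr, mul_inv_rev, show uS h (1 + c + sg m (e : F) * 1) r * dS h e * ((dS h e)⁻¹ * (uS h c d)⁻¹) =
      uS h (1 + c + sg m (e : F) * 1) r * (uS h c d)⁻¹ by group, h.uS_inv, h.uS_mul] at h1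
    refine sg_ne_one h hm he ?_
    have := hno _ _ h1
    linear_combination this - (1 + c) * h.two0
  subst he
  rw [map_one, mul_one] at hg ⊢
  obtain rfl := hno c d hg
  exact ⟨d, rfl, hscale' d hg⟩

/-- A binary stabiliser contains the centre of a Sylow subgroup along with any of its involutions. -/
theorem centre_mem {H : Subgroup (Cfsg.Sz F m)} (hB : Bin H) (hH : H ≠ ⊤) {b₀ : F} (hb₀ : b₀ ≠ 0)
    (hb : uS h 0 b₀ ∈ H) : ∀ b, uS h 0 b ∈ H := by
  intro b
  by_contra hbn
  have hV : centreGroup h H ≠ ⊤ := fun e => hbn (by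
    rw [← mem_centreGroup h, e]; trivial)
  have hb1 : b ≠ 0 := fun e => hbn (by rw [e, h.uS_zero]; exact H.one_mem)
  have hs : b + b₀ ≠ 0 := fun e => hbn (by
    rwa [show b = b₀ by linear_combination e - b₀ * h.two0])
  obtain ⟨g, g1, g2, g3⟩ := hB.key (uS h 0 b) (uS h 0 (b + b₀)) 1 (by
    rw [inv_one, one_mul, mul_one, centre_inv, centre_mul,
      show b + b₀ + b = b₀ by linear_combination b * h.two0]
    exact hb)
  obtain ⟨d, rfl, hd1⟩ := inS_central h hm hH hb₀ hb hb1 hV g1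
  obtain ⟨d', hd', hd2⟩ := inS_central h hm hH hb₀ hb hs hV g2
  obtain rfl : d = d' := (h.uS_coords_inj hd').2
  rw [inv_one, one_mul, mul_one, centre_inv, centre_mul] at g3
  exact scaled_absurd (centreGroup h H) hb hb₀ hbn hd1 hd2 g3

/-- A binary stabiliser containing the centre fixes the corresponding point. -/
theorem fix_of_centre {H : Subgroup (Cfsg.Sz F m)} (hH : H ≠ ⊤) (hZ : ∀ b, uS h 0 b ∈ H) :
    ∀ g ∈ H, g • ∞' = ∞' := by
  intro g hg
  by_contra hgn
  have hMv : SzSubgroups.Moving h H := ⟨hZ 1, g, hg, hgn⟩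
  have hfield : ∀ x : F, x ∈ hMv.field h hm := fun x => hZ x
  obtain ⟨t, ht0, ht1⟩ := h.exists_ne01 hm
  by_cases hQ : ∃ a b, uS h a b ∈ H ∧ a ≠ 0
  · obtain ⟨a, b, hab, ha⟩ := hQ
    refine hH (h.eq_top_of_unip_le hm ?_ hg hgn)
    rintro _ ⟨p, r, rfl⟩
    by_cases hp : p = 0
    · subst hp; exact hZ r
    obtain ⟨e, he⟩ := h.sg_surjective (p / a)
    have he0 : e ≠ 0 := fun z => by rw [z, sg_zero] at he; exact div_ne_zero hp ha he.symm
    obtain ⟨c, d, hk⟩ := hMv.torus_exists h hm (e := Units.mk0 e he0) (hfield _)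
    have h1 := H.mul_mem (H.mul_mem hk hab) (H.inv_mem hk)
    rw [conj_uS, Units.val_mk0, he, div_mul_cancel₀ _ ha] at h1
    exact uS_swap h hZ h1 r
  push Not at hQ
  obtain ⟨c, d, hk⟩ := hMv.torus_exists h hm (e := Units.mk0 t ht0) (hfield _)
  have ht : Units.mk0 t ht0 ≠ 1 := fun z => ht1 (congrArg Units.val z)
  obtain ⟨x, y, hxy⟩ := borel_cases h hm (a := c) (b := d) ht
  let M := H.map (MulAut.conj (uS h x y)⁻¹).toMonoidHom
  have hmem : ∀ p, p ∈ H → (uS h x y)⁻¹ * p * uS h x y ∈ M := fun p hp => ⟨p, hp, by simp⟩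
  have hMZ : ∀ b, uS h 0 b ∈ M := fun b => by
    have := hmem _ (hZ b)
    rwa [mul_assoc, h.uS_center_comm, inv_mul_cancel_left] at this
  have hMQ : ∀ a b, uS h a b ∈ M → a = 0 := by
    intro a b hab
    obtain ⟨p, hp, hpe⟩ := hab
    have : p = uS h x y * uS h a b * (uS h x y)⁻¹ := by rw [← hpe]; simp [mul_assoc]
    rw [h.uS_mul, h.uS_inv, h.uS_mul] at this
    have h2 := hQ _ _ (this ▸ hp)
    linear_combination h2 - x * h.two0
  have hMd : ∀ e : Fˣ, dS h e ∈ M := by
    intro e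
    obtain ⟨c', d', hk'⟩ := hMv.torus_exists h hm (e := e) (hfield _)
    have h1 := hmem _ hk'
    have h0 : dS h (Units.mk0 t ht0) ∈ M := hxy ▸ hmem _ hk
    obtain ⟨r, hr⟩ := borel_conj h x y c' d' e
    rw [hr] at h1
    set c'' := x + c' + sg m (e : F) * x
    have h2 := M.mul_mem (M.mul_mem (M.mul_mem h0 h1) (M.inv_mem h0)) (M.inv_mem h1)
    rw [show dS h (Units.mk0 t ht0) * (uS h c'' r * dS h e) * (dS h (Units.mk0 t ht0))⁻¹ *
        (uS h c'' r * dS h e)⁻¹ = dS h (Units.mk0 t ht0) * uS h c'' r * (dS h (Units.mk0 t ht0))⁻¹ *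
        (dS h (Units.mk0 t ht0) * dS h e * (dS h (Units.mk0 t ht0))⁻¹ * (dS h e)⁻¹) * (uS h c'' r)⁻¹ by group,
      ← map_mul, ← map_inv, ← map_inv, ← map_mul, ← map_mul, mul_inv_cancel_comm, mul_inv_cancel, map_one, mul_one,
      map_inv, dS_conj_uS, h.uS_inv, h.uS_mul] at h2
    have h3 := hMQ _ _ h2
    have hc : c'' = 0 := by
      by_contra hc
      refine sg_ne_one h hm ht (mul_right_cancel₀ hc ?_)
      linear_combination h3 - c'' * h.two0
    have h4 := M.mul_mem (M.inv_mem (hMZ r)) (hc ▸ h1)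
    rwa [inv_mul_cancel_left] at h4
  have hMtop : M ≠ ⊤ := (fun e => hH (Subgroup.map_injective (f := (MulAut.conj (uS h x y)⁻¹).toMonoidHom) (MulEquiv.injective _) (e.trans (Subgroup.map_top_of_surjective _ (MulEquiv.surjective _)).symm)))
  have hMg : (uS h x y)⁻¹ * g * uS h x y ∈ M := hmem g hg
  have hcore : SzSubgroups.Core h hm M :=
    { toMoving := ⟨hMZ 1, _, hMg, fun z => hgn (by
        rw [mul_smul, mul_smul, h.uS_smul_none, inv_smul_eq_iff, h.uS_smul_none] at z
        exact z)⟩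
      torus := fun e _ => hMd e
      big := ⟨t, hMZ t, ht0, ht1⟩ }
  obtain ⟨z, hz⟩ := hcore.field_ne_top h hm hMtop
  exact hz (hMZ z)

end Cfsg.Agent.Lib.SzBinary56
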