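import Cfsg.Agent.Lib.SzBinary56.Even
import Mathlib

/-!
An explicit triangle of elements of order five in a Suzuki group: elements `x`, `y` of order five
with `y * x` of order dividing five and `y` outside of `⟨x⟩`.
-/

set_option autoImplicit false
set_option linter.unusedSectionVars false

namespace Cfsg.Agent.Lib.SzBinary56

open Cfsg.Agent.Lib.LieTwisted.Suzuki Cfsg.Agent.Lib.SzElements.Basic Cfsg.Agent.Lib.SzTori
open scoped Matrix

variable {F : Type*} [Field F] [Fintype F] {m : ℕ}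

local notation "∞'" => (opt m (none : Option (F × F)))

/-- The trace of an element of the Suzuki group in its natural representation. -/
def trS (g : Cfsg.Sz F m) : F := (mat g).trace

theorem trS_conj (x g : Cfsg.Sz F m) : trS (x * g * x⁻¹) = trS g := by
  rw [trS, mat_mul, Matrix.trace_mul_comm, ← mat_mul, ← mul_assoc, inv_mul_cancel_left' x g]
  rfl
where
  inv_mul_cancel_left' (x g : Cfsg.Sz F m) : x⁻¹ * x * g = g := by rw [inv_mul_cancel, one_mul]

variable (h : IsSzField F m) (hm : 1 ≤ m)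
include h

theorem ofNat_mod (n : ℕ) [n.AtLeastTwo] : (OfNat.ofNat n : F) = ((n % 2 : ℕ) : F) := by
  have := h.charTwo
  exact (Nat.cast_ofNat (R := F) (n := n)).symm.trans (CharP.cast_eq_mod F 2 n)

theorem zw_pow_five : (uS h 0 1 * wS h) ^ 5 = 1 := by
  refine mat_injective ?_
  have e : (uS h 0 1 * wS h) ^ 5 = (uS h 0 1 * wS h) * (uS h 0 1 * wS h) * (uS h 0 1 * wS h) *
      (uS h 0 1 * wS h) * (uS h 0 1 * wS h) := by simp only [pow_succ, pow_zero, one_mul]
  rw [e, mat_one]
  simp only [mat_mul, h.mat_uS, h.mat_wS]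
  ext i j
  fin_cases i <;> fin_cases j <;>
    simp [utMat, wMat, zfun, sg_zero, sg_one, Matrix.mul_apply, Fin.sum_univ_four] <;>
    (try ring_nf) <;> (try simp [ofNat_mod h])

theorem zw_ne_one : uS h 0 1 * wS h ≠ 1 := by
  intro e
  have := congrArg (fun g => g • ∞') e
  simp only [mul_smul, h.wS_smul_none, h.uS_smul_zero, one_smul] at this
  exact Option.some_ne_none _ (opt_injective this)

theorem trS_zw (l : F) : trS (uS h 0 l * wS h) = sg m l := by
  rw [trS, mat_mul, h.mat_uS, h.mat_wS]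
  simp [utMat, wMat, zfun, sg_zero, Matrix.trace, Matrix.mul_apply, Fin.sum_univ_four]

include hm

/-- An involution `k` with trace of `z * k` equal to one gives an element of order five. -/
theorem five_of_trS {k : Cfsg.Sz F m} (hk : k * k = 1) (htr : trS (uS h 0 1 * k) = 1) :
    (uS h 0 1 * k) ^ 5 = 1 := by
  by_cases hfix : k • ∞' = ∞'
  · exfalso
    obtain ⟨a, b, e, rfl⟩ := h.eq_of_fix_none hm hfix
    obtain ⟨r, hr⟩ := borel_mul h a b a b e e
    rw [hr, ← h.uS_zero, ← mul_one (uS h (0 : F) 0), ← map_one (dS h)] at hk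
    have he : e = 1 := by
      have h2 : e * e = 1 := (h.borel_coords_inj hk).2.2
      by_contra he
      exact inv_ne_self h hm he (inv_eq_of_mul_eq_one_right h2)
    subst he
    rw [map_one, mul_one, trS, mat_mul, h.mat_uS, h.mat_uS, h.utMat_mul] at htr
    simp [utMat, Matrix.trace, Fin.sum_univ_four] at htr
    exact zero_ne_one (α := F) (by linear_combination htr - 2 * h.two0)
  obtain ⟨a, b, e, heq | ⟨x, y, heq⟩⟩ := h.bruhat hm k
  · exact absurd (by rw [heq, mul_smul, h.dS_smul_none, h.uS_smul_none]) hfix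
  -- move the image of infinity to the origin
  set k' := (uS h x y)⁻¹ * k * uS h x y with hk'
  have hk'2 : k' * k' = 1 := by
    rw [hk', show (uS h x y)⁻¹ * k * uS h x y * ((uS h x y)⁻¹ * k * uS h x y) =
      (uS h x y)⁻¹ * (k * k) * uS h x y by group, hk]
    group
  have hk0 : k' • ∞' = opt m (some (0, 0)) := by
    rw [hk', mul_smul, h.uS_smul_none, mul_smul, inv_smul_eq_iff, h.uS_smul_zero, heq, h.cell_smul_none]
  have hk0' : k' • opt m (some ((0 : F), (0 : F))) = ∞' := by
    rw [← hk0, ← mul_smul, hk'2, one_smul]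
  obtain ⟨f, hf⟩ : ∃ f, wS h * k' = dS h f := h.eq_of_fix_two hm
    (by rw [mul_smul, hk0, h.wS_smul_zero]) (by rw [mul_smul, hk0', h.wS_smul_none])
  have hkf : k' = wS h * dS h f := by rw [← hf, ← mul_assoc, h.wS_mul_self, one_mul]
  obtain ⟨r, hr⟩ : ∃ r : Fˣ, r * r = f := by
    have : CharP F 2 := h.charTwo
    obtain ⟨r, hr⟩ := (Finite.injective_iff_surjective.mp (CharTwo.sq_injective (R := F))) (f : F)
    simp only at hr
    have hr0 : r ≠ 0 := fun z => f.ne_zero (by rw [← hr, z]; ring)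
    exact ⟨Units.mk0 r hr0, Units.ext (by rw [Units.val_mul, Units.val_mk0, ← sq]; exact hr)⟩
  have hkr : k' = dS h r⁻¹ * wS h * (dS h r⁻¹)⁻¹ := by
    rw [hkf, ← hr, map_mul, map_inv, inv_inv, ← mul_assoc, h.wS_mul_dS, map_inv]
  set l := sg m (r : F) * (r : F) ^ 2
  have hz : uS h 0 1 * k = (uS h x y * dS h r⁻¹) * (uS h 0 l * wS h) * (uS h x y * dS h r⁻¹)⁻¹ := by
    have e1 : k = uS h x y * k' * (uS h x y)⁻¹ := by rw [hk']; group
    have e2 : dS h r * uS h 0 1 = uS h 0 l * dS h r := by rw [h.dS_mul_uS, mul_zero, mul_one]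
    rw [e1, ← mul_assoc, ← mul_assoc, h.uS_center_comm, hkr]
    simp only [map_inv, inv_inv, mul_inv_rev]
    have e3 : uS h 0 1 * (dS h r)⁻¹ = (dS h r)⁻¹ * uS h 0 l := by
      rw [eq_inv_mul_iff_mul_eq, ← mul_assoc, e2, mul_inv_cancel_right]
    simp only [mul_assoc]
    rw [← mul_assoc (uS h 0 1), e3]
    group
  rw [hz, trS_conj, trS_zw, ← sg_one (F := F) (m := m)] at htr
  rw [hz, conj_pow, h.sg_injective htr, zw_pow_five]
  group

omit hm

/-- The points of the subfield of order two. -/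
def InP5 (p : Projectivization F (Fin 4 → F)) : Prop :=
  p = ∞' ∨ ∃ i j : F, (i = 0 ∨ i = 1) ∧ (j = 0 ∨ j = 1) ∧ p = opt m (some (i, j))

theorem inP5_z {p : Projectivization F (Fin 4 → F)} (hp : InP5 (m := m) p) :
    InP5 (m := m) (uS h 0 1 • p) := by
  rcases hp with rfl | ⟨i, j, hi, hj, rfl⟩
  · exact Or.inl (h.uS_smul_none _ _)
  · refine Or.inr ⟨i, 1 + j, hi, ?_, ?_⟩
    · rcases hj with rfl | rfl
      · exact Or.inr (add_zero 1)
      · exact Or.inl (add_self_zero h 1)
    · rw [h.uS_smul_some, sg_zero, zero_mul, add_zero, zero_add]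

theorem wS_smul_of {x y : F} (hz : zfun m x y = 1) :
    wS h • opt m (some (x, y)) = opt m (some (y, x)) := by
  refine smul_opt_of _ 1 ?_
  rw [h.mat_wS, one_smul]
  show wMat F *ᵥ pt m x y = pt m y x
  rw [h.wMat_pt (by rw [hz]; exact one_ne_zero), hz, one_smul, div_one, div_one]

theorem inP5_w {p : Projectivization F (Fin 4 → F)} (hp : InP5 (m := m) p) :
    InP5 (m := m) (wS h • p) := by
  rcases hp with rfl | ⟨i, j, hi, hj, rfl⟩
  · exact Or.inr ⟨0, 0, Or.inl rfl, Or.inl rfl, h.wS_smul_none⟩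
  · rcases hi with rfl | rfl <;> rcases hj with rfl | rfl
    · exact Or.inl h.wS_smul_zero
    all_goals refine Or.inr ⟨_, _, ?_, ?_, wS_smul_of h ?_⟩
    all_goals first
      | exact Or.inl rfl
      | exact Or.inr rfl
      | (simp [zfun, sg_zero, sg_one] <;> linear_combination h.two0)

include hm

theorem exists_witness : ∃ a b : F, a ≠ 0 ∧ a ≠ 1 ∧ a + b + zfun m a b = 0 := by
  obtain ⟨t, t0, t1⟩ := h.exists_ne01 hm
  obtain ⟨s, hs⟩ : ∃ s, s = 1 + t + sg m t := ⟨_, rfl⟩
  have hS : sg m s = 1 + sg m t + t ^ 2 := by rw [hs, h.sg_add, h.sg_add, sg_one, h.sg_sg]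
  have hs0 : s ≠ 0 := fun z => by
    rw [z, sg_zero] at hS
    have hz : sg m t = 1 + t := by linear_combination hs.symm.trans z - (1 + t) * h.two0
    have : t * (t + 1) = 0 := by linear_combination (-1 : F) * hS + (-1 : F) * hz + (-1) * h.two0
    rcases mul_eq_zero.1 this with e | e
    · exact t0 e
    · exact t1 (by linear_combination e - h.two0)
  have hs1 : s ≠ 1 := fun z => h.sg_ne_self t0 t1 (by linear_combination hs.symm.trans z - t * h.two0)
  have hS0 : sg m s ≠ 0 := mt sg_eq_zero.1 hs0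
  refine ⟨1 + s / sg m s, t / s + s / sg m s, ?_, ?_, ?_⟩
  · intro z
    have : s / sg m s = 1 := by linear_combination z - h.two0
    rw [div_eq_one_iff_eq hS0] at this
    exact h.sg_ne_self hs0 hs1 this.symm
  · intro z
    exact div_ne_zero hs0 hS0 (by linear_combination z)
  · have hsA : sg m (1 + s / sg m s) = 1 + sg m s / s ^ 2 := by
      rw [h.sg_add, sg_one, div_eq_mul_inv, sg_mul, sg_inv, h.sg_sg, div_eq_mul_inv]
    have hsB : sg m (t / s + s / sg m s) = sg m t / sg m s + sg m s / s ^ 2 := by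
      rw [h.sg_add, div_eq_mul_inv, div_eq_mul_inv, sg_mul, sg_mul, sg_inv, sg_inv, h.sg_sg,
        div_eq_mul_inv, div_eq_mul_inv]
    rw [zfun, hsA, hsB]
    generalize sg m s = S at *
    generalize sg m t = T at *
    field_simp
    subst hs
    ring_nf
    simp [ofNat_mod h]

/-- The triangle. -/
theorem five_tri : ∃ x y : Cfsg.Sz F m, x ^ 5 = 1 ∧ x ≠ 1 ∧ y ^ 5 = 1 ∧ (y * x) ^ 5 = 1 ∧
    y ∉ Subgroup.zpowers x := by
  obtain ⟨a, b, ha0, ha1, hab⟩ := exists_witness h hm
  set u := uS h a b with hu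
  set z := uS h 0 1 with hz
  set w := wS h with hw
  set k := u * (w * z * w) * u⁻¹ with hk
  have hzz : z * z = 1 := by rw [hz, centre_mul, add_self_zero h, h.uS_zero]
  have hww : w * w = 1 := h.wS_mul_self
  have hkk : k * k = 1 := by
    rw [hk, show u * (w * z * w) * u⁻¹ * (u * (w * z * w) * u⁻¹) = u * (w * z * (w * w) * z * w) * u⁻¹ by group,
      hww, mul_one, mul_assoc w z z, hzz, mul_one, hww]
    group
  have hzi : z⁻¹ = z := inv_eq_of_mul_eq_one_right hzz
  have hwi : w⁻¹ = w := h.wS_inv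
  have hki : k⁻¹ = k := inv_eq_of_mul_eq_one_right hkk
  have hx : (z * w) ^ 5 = 1 := zw_pow_five h
  have hzk : (z * k) ^ 5 = 1 := by
    have e : z * k = u * (z * w) ^ 2 * u⁻¹ := by
      rw [hk, ← mul_assoc, ← mul_assoc, hz, hu, h.uS_center_comm, pow_two]
      simp only [mul_assoc]
    rw [e, conj_pow, ← pow_mul, mul_comm, pow_mul, hx, one_pow, mul_one, mul_inv_cancel]
  have htr : trS (w * k) = 1 := by
    have hM : mat k = utMat m a b * (wMat F * utMat m 0 1 * wMat F) * utMat m a (b + sg m a * a) := by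
      rw [hk, hu, h.uS_inv]
      simp only [hz, hw, mat_mul, h.mat_uS, h.mat_wS]
    rw [trS, mat_mul, hM, hw, h.mat_wS]
    simp [utMat, wMat, zfun, sg_zero, sg_one, Matrix.trace, Matrix.mul_apply, Fin.sum_univ_four,
      h.sg_add, sg_mul, h.sg_sg]
    rw [zfun] at hab
    linear_combination (norm := skip) (a + b + (a * b + sg m a * a ^ 2 + sg m b)) * hab
    ring_nf
    simp [ofNat_mod h]
  set g := (z * w) ^ 3 with hg
  have hgw : g * w * g⁻¹ = z := by
    have e : (z * w) ^ 3 * w = z * ((z * w) ^ 3)  := by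
      have h6 : (z * w) ^ 6 = z * w := by rw [show 6 = 5 + 1 from rfl, pow_succ, hx, one_mul]
      have hinv : w * (z * w) ^ 3 * w = ((z * w) ^ 3)⁻¹ := by
        have : w * (z * w) * w⁻¹ = (z * w)⁻¹ := by
          rw [mul_inv_rev, hzi, hwi, mul_assoc, mul_assoc, hww, mul_one]
        rw [← inv_pow, ← this, conj_pow, hwi]
      rw [eq_comm, ← mul_inv_eq_iff_eq_mul]
      calc z * (z * w) ^ 3 * w⁻¹ = z * w * (w * (z * w) ^ 3 * w) := by
            rw [hwi]; simp only [← mul_assoc]; rw [mul_assoc z w w, hww, mul_one]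
        _ = (z * w) ^ 6 * ((z * w) ^ 3)⁻¹ := by rw [hinv, h6]
        _ = (z * w) ^ 3 := by group
    rw [hg, e, mul_inv_cancel_right]
  have hwk : (w * k) ^ 5 = 1 := by
    have h1 : g * (w * k) * g⁻¹ = z * (g * k * g⁻¹) := by rw [← hgw]; group
    have h2 : (g * (w * k) * g⁻¹) ^ 5 = 1 := by
      rw [h1]
      refine five_of_trS h hm ?_ ?_
      · rw [show g * k * g⁻¹ * (g * k * g⁻¹) = g * (k * k) * g⁻¹ by group, hkk]; group
      · rw [← h1, trS_conj, htr]
    rwa [conj_pow, mul_inv_eq_one, mul_eq_left] at h2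
  refine ⟨z * w, k * z, hx, zw_ne_one h, ?_, ?_, ?_⟩
  · rw [show k * z = (z * k)⁻¹ by rw [mul_inv_rev, hzi, hki], inv_pow, hzk, inv_one]
  · rw [show k * z * (z * w) = (w * k)⁻¹ by
      rw [mul_inv_rev, hwi, hki, ← mul_assoc, mul_assoc k z z, hzz, mul_one], inv_pow, hwk, inv_one]
  · intro hmem
    obtain ⟨n, hn⟩ := (mem_powers_iff_mem_zpowers.2 hmem : k * z ∈ Submonoid.powers (z * w))
    have hn' : InP5 (m := m) ((z * w) ^ n • ∞') := by
      clear hn
      induction n with
      | zero => rw [pow_zero, one_smul]; exact Or.inl rfl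
      | succ n ih => rw [pow_succ', mul_smul, mul_smul]; exact inP5_z h (inP5_w h ih)
    simp only at hn
    rw [hn] at hn'
    have hpt : (k * z) • ∞' = opt m (some (a + 1, b + 0 + sg m a * 1)) := by
      rw [mul_smul, hz, h.uS_smul_none, hk, mul_smul, mul_smul, inv_smul_eq_iff.2 (h.uS_smul_none a b).symm,
        mul_smul, hw, h.wS_smul_none, mul_smul, hz, h.uS_smul_zero,
        wS_smul_of h (by simp [zfun, sg_zero, sg_one]), hu, h.uS_smul_some]
    rw [hpt] at hn'
    rcases hn' with e | ⟨i, j, hi, _, e⟩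
    · exact Option.some_ne_none _ (opt_injective e)
    · have e1 := (Prod.ext_iff.1 (Option.some.inj (opt_injective e))).1
      simp only at e1
      rcases hi with rfl | rfl
      · exact ha1 (by linear_combination e1 - h.two0)
      · exact ha0 (by linear_combination e1)

end Cfsg.Agent.Lib.SzBinary56
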