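import Cfsg.Agent.Lib.SzBinary56.Borel
import Cfsg.Agent.Lib.SzBinary56.FiveTri
import Cfsg.Agent.Lib.SzBinary56.Count
import Cfsg.Agent.Lib.SzSubgroups.Cyclic
import Cfsg.Agent.Lib.SzSolubilizer.Torus
import Mathlib

/-!
A non-trivial subgroup of odd order of a Suzuki group has no binary coset action.
-/

set_option autoImplicit false
set_option linter.unusedSectionVars false

namespace Cfsg.Agent.Lib.SzBinary56

open Cfsg.Agent.Lib.LieTwisted.Suzuki Cfsg.Agent.Lib.SzElements.Basic Cfsg.Agent.Lib.SzTori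
open Cfsg.Agent.Lib.SzSolubilizer

/-- In a cyclic subgroup the elements of order dividing a prime form one subgroup. -/
theorem mem_zpowers_of_cyclic {G : Type*} [Group G] [Finite G] {C : Subgroup G} (hC : IsCyclic C)
    {p : ℕ} (hp : p.Prime) {x z : G} (hx : x ∈ C) (hxo : orderOf x = p) (hz : z ∈ C) (hzp : z ^ p = 1) :
    z ∈ Subgroup.zpowers x := by
  classical
  haveI := hC
  letI := Fintype.ofFinite C
  have hle := IsCyclic.card_pow_eq_one_le (α := C) hp.pos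
  set K := Subgroup.zpowers (⟨x, hx⟩ : C) with hK
  letI := Fintype.ofFinite K
  have hsub : (Finset.univ.filter fun a : C => a ∈ K) ⊆ Finset.univ.filter fun a : C => a ^ p = 1 := by
    intro a ha
    obtain ⟨n, rfl⟩ := Subgroup.mem_zpowers_iff.1 (Finset.mem_filter.1 ha).2
    refine Finset.mem_filter.2 ⟨Finset.mem_univ _, Subtype.ext ?_⟩
    simp only [SubmonoidClass.coe_pow, Subgroup.coe_zpow, Subgroup.coe_one]
    rw [← zpow_natCast, ← zpow_mul, mul_comm, zpow_mul, zpow_natCast, ← hxo, pow_orderOf_eq_one, one_zpow]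
  have hcard : (Finset.univ.filter fun a : C => a ∈ K).card = p := by
    rw [← Fintype.card_subtype, ← Nat.card_eq_fintype_card]
    show Nat.card K = p
    rw [hK, Nat.card_zpowers, ← Subgroup.orderOf_coe]
    exact hxo
  have heq := Finset.eq_of_subset_of_card_le hsub (by rw [hcard]; exact hle)
  have hzK : (⟨z, hz⟩ : C) ∈ K := by
    have : (⟨z, hz⟩ : C) ∈ Finset.univ.filter fun a : C => a ^ p = 1 :=
      Finset.mem_filter.2 ⟨Finset.mem_univ _, Subtype.ext hzp⟩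
    rw [← heq] at this
    exact (Finset.mem_filter.1 this).2
  obtain ⟨n, hn⟩ := Subgroup.mem_zpowers_iff.1 hzK
  exact Subgroup.mem_zpowers_iff.2 ⟨n, congrArg Subtype.val hn⟩

variable {F : Type*} [Field F] [Fintype F] {m : ℕ}

local notation "∞'" => (opt m (none : Option (F × F)))

variable (h : IsSzField F m) (hm : 1 ≤ m)
include h hm

/-- A product relation with the conjugating element outside of the normaliser of the torus. -/
theorem not_bin_of_tri {H : Subgroup (Cfsg.Sz F m)} {g : Cfsg.Sz F m} (hg : InE g) (hle : H ≤ cen g)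
    {x y u a v : Cfsg.Sz F m} (hx : x ∈ H) (hx1 : x ≠ 1) (hy : y ∈ H) (hu : u ∈ H)
    (hy1 : y ≠ 1) (ha : a ∉ Subgroup.normalizer (cen g : Set (Cfsg.Sz F m)))
    (he : x * (a * y * a⁻¹) = v * u * v⁻¹) : ¬ Bin H := by
  intro hB
  set N := Subgroup.normalizer (cen g : Set (Cfsg.Sz F m)) with hN
  have hti := ti_of_centralizer (cen g) fun c hc hc1 => torus_eq h hm hg hc hc1
  set X := x⁻¹ * v with hX
  obtain ⟨g0, g1, g2, g3⟩ := hB.key x (a * y * a⁻¹)⁻¹ X (by
    rw [inv_inv, show X⁻¹ * (a * y * a⁻¹ * x) * X = v⁻¹ * (x * (a * y * a⁻¹)) * v by rw [hX]; group, he,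
      show v⁻¹ * (v * u * v⁻¹) * v = u by group]
    exact hu)
  have hg0 : g0 ∈ H := by
    have := g1 1 (by simpa using hx)
    simpa using this
  have hg0a : a⁻¹ * g0 * a ∈ H := g2 a (by
    rw [show a⁻¹ * (a * y * a⁻¹)⁻¹ * a = y⁻¹ by group]; exact H.inv_mem hy)
  obtain rfl : g0 = 1 := by
    by_contra hne
    refine ha ?_
    have := hti a⁻¹ g0 (hle hg0) hne (by rw [inv_inv]; exact hle hg0a)
    simpa using N.inv_mem this
  rw [inv_one, one_mul] at g3
  have hXN : X ∈ N := by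
    have := hti X⁻¹ x (hle hx) hx1 (by rw [inv_inv]; exact hle g3)
    simpa using N.inv_mem this
  have hvN : v ∈ N := by
    have := N.mul_mem (Subgroup.le_normalizer (hle hx) : x ∈ N) hXN
    rwa [hX, mul_inv_cancel_left] at this
  have h1 : v * u * v⁻¹ ∈ cen g := (Subgroup.mem_normalizer_iff.1 hvN u).1 (hle hu)
  rw [← he, Subgroup.mul_mem_cancel_left _ (hle hx)] at h1
  exact ha (hti a y (hle hy) hy1 h1)

/-- Conjugacy of the elements of order five. -/
theorem five_conj {u z : Cfsg.Sz F m} (hd : 5 ∣ Fintype.card F ^ 2 + 1) (hu : orderOf u = 5)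
    (hz : z ^ 5 = 1) : ∃ a w, w ∈ Subgroup.zpowers u ∧ z = a * w * a⁻¹ := by
  haveI : Fact (Nat.Prime 5) := ⟨Nat.prime_five⟩
  by_cases hz1 : z = 1
  · exact ⟨1, 1, one_mem _, by rw [hz1]; group⟩
  have hzo : orderOf z = 5 := orderOf_eq_prime hz hz1
  have hpg : ∀ v : Cfsg.Sz F m, orderOf v = 5 → IsPGroup 5 (Subgroup.zpowers v) := fun v hv =>
    IsPGroup.of_card (n := 1) (by rw [Nat.card_zpowers, hv, pow_one])
  obtain ⟨P1, hP1⟩ := (hpg u hu).exists_le_sylow
  obtain ⟨P2, hP2⟩ := (hpg z hzo).exists_le_sylow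
  obtain ⟨c, hc⟩ := MulAction.exists_smul_eq (Cfsg.Sz F m) P2 P1
  have hmem : c * z * c⁻¹ ∈ (P1 : Subgroup (Cfsg.Sz F m)) := by
    rw [← hc, Sylow.coe_subgroup_smul]
    exact ⟨z, hP2 (Subgroup.mem_zpowers z), rfl⟩
  have hu1 : u ≠ 1 := fun e => by rw [e, orderOf_one] at hu; norm_num at hu
  obtain ⟨hE, hle⟩ := sylow_le h hm hd P1 (hP1 (Subgroup.mem_zpowers u)) hu1
  refine ⟨c⁻¹, c * z * c⁻¹, ?_, by group⟩
  exact mem_zpowers_of_cyclic (torus_cyclic h hm hE) Nat.prime_five (mem_centralizer_iff'.2 rfl) hu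
    (hle hmem) (by rw [conj_pow, hz, mul_one, mul_inv_cancel])

/-- A non-trivial subgroup of a fixed-point-free torus. -/
theorem not_bin_torus {H : Subgroup (Cfsg.Sz F m)} {g : Cfsg.Sz F m} (hg : InE g) (hle : H ≤ cen g)
    (hne : H ≠ ⊥) : ¬ Bin H := by
  by_cases h5 : 5 ∣ Nat.card H
  · haveI : Fact (Nat.Prime 5) := ⟨Nat.prime_five⟩
    have hd : 5 ∣ Fintype.card F ^ 2 + 1 :=
      (h5.trans (Subgroup.card_dvd_of_le hle)).trans (torus_card_dvd h hm hg)
    obtain ⟨u0, hu0⟩ := exists_prime_orderOf_dvd_card' 5 h5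
    rw [← Subgroup.orderOf_coe] at hu0
    have hz : ∀ z : Cfsg.Sz F m, z ^ 5 = 1 → ∃ a w, w ∈ H ∧ z = a * w * a⁻¹ := fun z hz => by
      obtain ⟨a, w, hw, e⟩ := five_conj h hm hd hu0 hz
      exact ⟨a, w, Subgroup.zpowers_le.2 u0.2 hw, e⟩
    obtain ⟨x0, y0, hx, hx1, hy, hyx, hmem⟩ := five_tri h hm
    obtain ⟨c, x, hxH, hxe⟩ := hz x0 hx
    obtain ⟨a', y, hyH, hye⟩ := hz y0 hy
    obtain ⟨v, u, huH, hve⟩ := hz (x * (c⁻¹ * y0 * c)) (by
      rw [show x * (c⁻¹ * y0 * c) = (c⁻¹ * x0) * (y0 * x0) * (c⁻¹ * x0)⁻¹ by rw [hxe]; group, conj_pow,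
        hyx, mul_one, mul_inv_cancel])
    have hy1 : y ≠ 1 := fun e => hmem (by rw [hye, e, mul_one, mul_inv_cancel]; exact one_mem _)
    refine not_bin_of_tri h hm hg hle hxH
      (fun e => hx1 (by rw [hxe, e, mul_one, mul_inv_cancel])) hyH huH hy1 (a := c⁻¹ * a') (v := v) ?_ ?_
    · intro hn
      refine hmem ?_
      have h1 := (Subgroup.mem_normalizer_iff.1 hn y).1 (hle hyH)
      rw [show c⁻¹ * a' * y * (c⁻¹ * a')⁻¹ = c⁻¹ * y0 * c by rw [hye]; group] at h1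
      have hxo : orderOf x = 5 := by
        rw [← orderOf_eq_prime hx hx1, hxe]
        exact (orderOf_injective (MulAut.conj c).toMonoidHom (MulAut.conj c).injective x).symm
      have hp : (c⁻¹ * y0 * c) ^ 5 = 1 := by
        rw [show c⁻¹ * y0 * c = c⁻¹ * y0 * c⁻¹⁻¹ by rw [inv_inv], conj_pow, hy, mul_one, mul_inv_cancel]
      obtain ⟨n, hn'⟩ := Subgroup.mem_zpowers_iff.1
        (mem_zpowers_of_cyclic (torus_cyclic h hm hg) Nat.prime_five (hle hxH) hxo h1 hp)
      refine Subgroup.mem_zpowers_iff.2 ⟨n, ?_⟩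
      rw [hxe, conj_zpow, hn']
      group
    · rw [show c⁻¹ * a' * y * (c⁻¹ * a')⁻¹ = c⁻¹ * y0 * c by rw [hye]; group]
      exact hve
  · obtain ⟨x, y, u, a, v, hx, hx1, hy, hy1, hu, ha, he⟩ := exists_triangle h hm hg hle hne h5
    exact not_bin_of_tri h hm hg hle hx hx1 hy hu hy1 ha he

/-- Transport of a subgroup with a fixed point to one fixing infinity. -/
theorem exists_conj_fix {H : Subgroup (Cfsg.Sz F m)} {P : Projectivization F (Fin 4 → F)}
    (hP : IsPt m P) (hH : ∀ t ∈ H, t • P = P) :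
    ∃ k : Cfsg.Sz F m, ∀ t ∈ H.map (MulAut.conj k).toMonoidHom, t • ∞' = ∞' := by
  obtain ⟨p, rfl⟩ := hP
  obtain ⟨k, hk⟩ : ∃ k : Cfsg.Sz F m, k • ∞' = opt m p := by
    rcases p with _ | ⟨a, b⟩
    · exact ⟨1, one_smul _ _⟩
    · exact ⟨uS h a b * wS h, by rw [mul_smul, h.wS_smul_none, h.uS_smul_zero]⟩
  refine ⟨k⁻¹, ?_⟩
  rintro _ ⟨t, ht, rfl⟩
  simp only [MulEquiv.coe_toMonoidHom, MulAut.conj_apply, inv_inv, mul_smul]
  rw [hk, hH t ht, ← hk, inv_smul_smul]

/-- A subgroup of odd order fixing infinity. -/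
theorem not_bin_fix {H : Subgroup (Cfsg.Sz F m)} (hodd : ∀ t ∈ H, t * t = 1 → t = 1) (hne : H ≠ ⊥)
    (hfix : ∀ t ∈ H, t • ∞' = ∞') : ¬ Bin H := by
  have hU : ∀ a b, uS h a b ∈ H → uS h a b = 1 := by
    intro a b hab
    have h0 : a = 0 := by
      by_contra ha
      have h2 := H.mul_mem hab hab
      rw [← sq, h.uS_sq] at h2
      have := hodd _ h2 (by rw [centre_mul, add_self_zero h, h.uS_zero])
      exact mul_ne_zero (mt sg_eq_zero.1 ha) ha (h.uS_coords_inj (this.trans h.uS_zero.symm)).2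
    subst h0
    exact hodd _ hab (by rw [centre_mul, add_self_zero h, h.uS_zero])
  have hcomm : ∀ s ∈ H, ∀ t ∈ H, s * t = t * s := by
    intro s hs t ht
    obtain ⟨a, b, e, rfl⟩ := h.eq_of_fix_none hm (hfix s hs)
    obtain ⟨c, d, f, rfl⟩ := h.eq_of_fix_none hm (hfix t ht)
    obtain ⟨r1, hr1⟩ := borel_mul h a b c d e f
    obtain ⟨r2, hr2⟩ := borel_mul h c d a b f e
    have h3 := H.mul_mem (H.mul_mem hs ht) (H.inv_mem (H.mul_mem ht hs))
    rw [hr1, hr2, mul_comm f e, mul_inv_rev,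
      show ∀ X Y, X * dS h (e * f) * ((dS h (e * f))⁻¹ * Y) = X * Y from fun X Y => by group,
      h.uS_inv, h.uS_mul] at h3
    have h4 := hU _ _ h3
    rw [← h.uS_mul, ← h.uS_inv, mul_inv_eq_one] at h4
    rw [hr1, hr2, h4, mul_comm f e]
  obtain ⟨⟨t, ht⟩, ht1⟩ := Subgroup.ne_bot_iff_exists_ne_one.1 hne
  obtain ⟨a, b, e, rfl⟩ := h.eq_of_fix_none hm (hfix t ht)
  have he : e ≠ 1 := by
    rintro rfl
    refine ht1 (Subtype.ext ?_)
    show uS h a b * dS h (1 : Fˣ) = 1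
    rw [map_one, mul_one] at ht ⊢
    exact hU a b ht
  obtain ⟨x, y, hxy⟩ := borel_cases h hm (a := a) (b := b) he
  intro hB
  set M := H.map (MulAut.conj (uS h x y)⁻¹).toMonoidHom with hM
  have hmem : ∀ p, p ∈ H → (uS h x y)⁻¹ * p * uS h x y ∈ M := fun p hp => ⟨p, hp, by simp⟩
  refine not_bin_frob h hm (H := M) ?_ (hxy ▸ hmem _ ht) he (hB.conj _)
  rintro _ ⟨p, hp, rfl⟩
  have hc : (MulAut.conj (uS h x y)⁻¹ p) ∈ Subgroup.centralizer ({dS h e} : Set (Cfsg.Sz F m)) := by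
    rw [mem_centralizer_iff', ← hxy]
    simp only [MulAut.conj_apply, inv_inv]
    calc (uS h x y)⁻¹ * (uS h a b * dS h e) * uS h x y * ((uS h x y)⁻¹ * p * uS h x y)
        = (uS h x y)⁻¹ * (uS h a b * dS h e * p) * uS h x y := by group
      _ = (uS h x y)⁻¹ * (p * (uS h a b * dS h e)) * uS h x y := by rw [hcomm _ ht p hp]
      _ = _ := by group
  rw [centralizer_dS h hm he] at hc
  obtain ⟨f, hf⟩ := hc
  exact ⟨0, f, by rw [h.uS_zero, one_mul]; exact hf.symm⟩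

/-- A non-trivial subgroup of odd order is not binary. -/
theorem not_bin_odd {H : Subgroup (Cfsg.Sz F m)} (hodd : ∀ t ∈ H, t * t = 1 → t = 1) (hne : H ≠ ⊥) :
    ¬ Bin H := by
  intro hB
  have hs : Group.IsSolvable H := SzSubgroups.solvable_of_two_cyclic h hm H fun D => by
    have hD : (D : Subgroup H) = ⊥ := by
      refine (Subgroup.eq_bot_iff_forall _).2 fun d hd => ?_
      obtain ⟨k, hk⟩ := D.isPGroup' ⟨d, hd⟩
      have hk' : (d : Cfsg.Sz F m) ^ 2 ^ k = 1 := congrArg (fun w => ((w : (D : Subgroup H)).1 : Cfsg.Sz F m)) hk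
      clear hk
      refine Subtype.ext ?_
      induction k with
      | zero => simpa using hk'
      | succ k ih =>
        refine ih (hodd _ (H.pow_mem d.2 _) ?_)
        rw [← pow_add, ← two_mul, ← pow_succ']
        exact hk'
    rw [hD]
    infer_instance
  obtain ⟨⟨x, hx⟩, hx1⟩ := Subgroup.ne_bot_iff_exists_ne_one.1 hne
  have hfixcase : ∀ P : Projectivization F (Fin 4 → F), IsPt m P → (∀ t ∈ H, t • P = P) → False := by
    intro P hP hH
    obtain ⟨k, hk⟩ := exists_conj_fix h hm hP hH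
    refine not_bin_fix h hm ?_ ?_ hk (hB.conj k)
    · rintro _ ⟨t, ht, rfl⟩ e
      have ht2 : t * t = 1 := (MulAut.conj k).injective (by rw [map_mul, map_one]; exact e)
      rw [hodd t ht ht2, map_one]
    · exact fun e => hne ((Subgroup.map_eq_bot_iff_of_injective _ (MulAut.conj k).injective).1 e)
  rcases classify h hm H hs hx (fun e => hx1 (Subtype.ext e)) with
    ⟨P, hP, hH⟩ | ⟨P, R, hP, hR, hne', hH⟩ | ⟨g, hg, hH⟩
  · exact hfixcase P hP hH
  · refine hfixcase P hP fun t ht => ?_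
    rcases hH t ht with ⟨e, -⟩ | ⟨e1, e2⟩
    · exact e
    · have := hodd t ht (by rw [← sq]; exact sq_of_swap h hm hP hR hne' e1 e2)
      rw [this, one_smul]
  · refine not_bin_torus h hm hg (fun w hw => ?_) hne hB
    have h4 := pow_four_mem_cen h hm hg (hH w hw)
    have hp := pow_normalizer h hm hg (hH w hw)
    rw [mul_comm, pow_mul] at hp
    have hv2 : (w ^ (Fintype.card F ^ 2 + 1)) ^ 2 = 1 :=
      hodd _ (H.pow_mem (H.pow_mem hw _) _) (by rw [← pow_add]; exact hp)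
    have hv : w ^ (Fintype.card F ^ 2 + 1) = 1 := hodd _ (H.pow_mem hw _) (by rw [← sq]; exact hv2)
    obtain ⟨k, hk⟩ : 4 ∣ Fintype.card F ^ 2 := by
      obtain ⟨-, k, hk⟩ := card_facts h hm
      exact ⟨k ^ 2, by rw [hk]; ring⟩
    rw [hk, pow_succ, pow_mul] at hv
    rw [eq_inv_of_mul_eq_one_right hv]
    exact (cen g).inv_mem ((cen g).pow_mem h4 k)

end Cfsg.Agent.Lib.SzBinary56
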